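import Groth.Agent.LamR.Filt
import Groth.Agent.LamR.FreeQ
import Mathlib.Algebra.Group.ForwardDiff

/-!
# The differences `θ^j = Σ_k (-1)^{j-k} C(j,k) ψ^k` of Adams operations

On a line element `θ^j u = (u-1)^j`; they are the power sums of the total γ-series.
-/

open Finset

noncomputable section

namespace Groth.Agent.KGrLib

open LambdaRing LamR

universe v

variable {K : Type v} [CommRing K] [LambdaOps K] (P : PosStructure K)

/-- the finite difference of Adams operations -/
def theta (j : ℕ) : K →+ K :=
  ∑ k ∈ range (j + 1), (AddMonoidHom.mulLeft ((-1 : K) ^ (j - k) * (j.choose k : K))).comp (adamsHom P k)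

lemma theta_apply (j : ℕ) (x : K) :
    theta P j x = ∑ k ∈ range (j + 1), (-1 : K) ^ (j - k) * (j.choose k : K) * adams P k x := by
  simp [theta, AddMonoidHom.finsetSum_apply]

lemma theta_zero (x : K) : theta P 0 x = (P.aug x : K) := by simp [theta_apply, adams_zero]

lemma theta_line {u : K} (hu : P.IsLine u) (j : ℕ) : theta P j u = (u - 1) ^ j := by
  rw [theta_apply, sub_eq_add_neg, add_pow]
  refine sum_congr rfl fun k _ => ?_
  rw [adams_line P hu]; ring

lemma theta_one (j : ℕ) : theta P j 1 = if j = 0 then 1 else 0 := by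
  rw [theta_line P (isLine_one P), sub_self]
  rcases j with - | j <;> simp

variable {P} in
lemma map_theta {L : Type v} [CommRing L] [LambdaOps L] {Q : PosStructure L} {g : K →+* L} (hg : IsExtension P Q g)
    (j : ℕ) (x : K) : g (theta P j x) = theta Q j (g x) := by
  rw [theta_apply, theta_apply, map_sum]
  exact sum_congr rfl fun k _ => by rw [map_mul, map_mul, map_pow, map_neg, map_one, map_natCast, map_adams hg]

variable {P} in
/-- finitely many elements become combinations of line elements -/
lemma exists_lineSpan (hK : HasSplitting K P) (l : List K) : ∃ (L : PosLambdaRing.{v}) (g : K →+* L.carrier),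
    IsExtension P L.posStr g ∧ ∀ x ∈ l, g x ∈ AddSubgroup.closure {u | L.posStr.IsLine u} := by
  have : ∀ x : K, ∃ e f, e ∈ P.pos ∧ f ∈ P.pos ∧ x = e - f := P.exists_sub
  choose pe pf hpe hpf hpx using this
  obtain ⟨L, g, hg, hs⟩ := exists_splitting hK (l.map pe ++ l.map pf) (by
    intro e he
    rcases List.mem_append.1 he with h | h <;> obtain ⟨x, _, rfl⟩ := List.mem_map.1 h
    exacts [hpe x, hpf x])
  refine ⟨L, g, hg, fun x hx => ?_⟩
  obtain ⟨s, hs1, hs2⟩ := hs (pe x) (List.mem_append_left _ (List.mem_map.2 ⟨x, hx, rfl⟩))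
  obtain ⟨t, ht1, ht2⟩ := hs (pf x) (List.mem_append_right _ (List.mem_map.2 ⟨x, hx, rfl⟩))
  rw [hpx x, map_sub, ← hs2, ← ht2]
  exact sub_mem (AddSubgroup.multiset_sum_mem _ _ fun u hu => AddSubgroup.subset_closure (hs1 u hu))
    (AddSubgroup.multiset_sum_mem _ _ fun u hu => AddSubgroup.subset_closure (ht1 u hu))

/-- the product formula -/
lemma theta_mul (hK : HasSplitting K P) (j : ℕ) (x y : K) :
    theta P j (x * y) = ∑ p ∈ range (j + 1), ∑ q ∈ range (j - p + 1),
      ((j.choose p * (j - p).choose q : ℕ) : K) * (theta P (p + q) x * theta P (j - q) y) := by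
  obtain ⟨L, g, hg, hl⟩ := exists_lineSpan hK [x, y]
  apply hg.injective
  simp only [map_sum, map_mul, map_theta hg, map_natCast]
  have hX := hl x (by simp)
  have hY := hl y (by simp)
  generalize g x = X at hX ⊢
  generalize g y = Y at hY ⊢
  induction hX using AddSubgroup.closure_induction with
  | mem u hu =>
    induction hY using AddSubgroup.closure_induction with
    | mem w hw =>
      rw [theta_line _ (isLine_mul _ hu hw), show u * w - 1 = (u - 1) * (w - 1) + ((u - 1) + (w - 1)) by ring, add_pow]
      refine sum_congr rfl fun p hp => ?_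
      rw [add_pow, mul_sum, sum_mul]
      refine sum_congr rfl fun q hq => ?_
      rw [mem_range] at hp hq
      rw [theta_line _ hu, theta_line _ hw, show j - q = p + (j - p - q) by omega, pow_add, pow_add, mul_pow, Nat.cast_mul]
      ring
    | zero => simp
    | add a b _ _ ha hb => simp only [mul_add, map_add, ha, hb, sum_add_distrib]
    | neg a _ ha => simp only [mul_neg, map_neg, ha, sum_neg_distrib]
  | zero => simp
  | add a b _ _ ha hb => simp only [add_mul, mul_add, map_add, ha, hb, sum_add_distrib]
  | neg a _ ha => simp only [neg_mul, mul_neg, map_neg, ha, sum_neg_distrib]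

/-- the total γ-series of `x - ε x` -/
def gser (x : K) : PowerSeries K := PowerSeries.mk fun i => gamma i (x - (P.aug x : K))

lemma constantCoeff_gser (x : K) : PowerSeries.constantCoeff (gser P x) = 1 := by
  rw [← PowerSeries.coeff_zero_eq_constantCoeff_apply, gser, PowerSeries.coeff_mk, gamma_zero]

lemma gser_add (x y : K) : gser P (x + y) = gser P x * gser P y := by
  ext k
  rw [gser, PowerSeries.coeff_mk, PowerSeries.coeff_mul, Finset.Nat.sum_antidiagonal_eq_sum_range_succ_mk,
    map_add, Int.cast_add, show x + y - ((P.aug x : K) + (P.aug y : K)) = (x - (P.aug x : K)) + (y - (P.aug y : K)) by ring,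
    gamma_add]
  exact sum_congr rfl fun i _ => by rw [gser, gser, PowerSeries.coeff_mk, PowerSeries.coeff_mk]

/-- power sums of the γ-series -/
def pgam (k : ℕ) : K →+ K :=
  AddMonoidHom.mk' (fun x => psum (gser P x) (k + 1)) fun x y => by
    rw [gser_add, psum_mul (constantCoeff_gser P x) (constantCoeff_gser P y)]

lemma psum_gser (hK : HasSplitting K P) (k : ℕ) (x : K) : psum (gser P x) (k + 1) = theta P (k + 1) x := by
  obtain ⟨L, g, hg, hl⟩ := exists_lineSpan hK [x]
  apply hg.injective
  rw [map_psum g (constantCoeff_gser P x), map_theta hg,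
    show PowerSeries.map g (gser P x) = gser L.posStr (g x) by
      ext i
      rw [PowerSeries.coeff_map, gser, gser, PowerSeries.coeff_mk, PowerSeries.coeff_mk, map_gamma hg.isLambdaHom,
        map_sub, map_intCast, hg.aug_comp]]
  have : AddSubgroup.closure {u | L.posStr.IsLine u} ≤ (pgam L.posStr k).eqLocus (theta L.posStr (k + 1)) := by
    rw [AddSubgroup.closure_le]
    intro u hu
    show psum (gser L.posStr u) (k + 1) = theta L.posStr (k + 1) u
    have hser : gser L.posStr u = genSer ({u - 1} : Multiset L.carrier) := by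
      ext i
      rw [gser, PowerSeries.coeff_mk, hu.2, Int.cast_one, coeff_genSer]
      match i with
      | 0 => rw [gamma_zero, esymm_zero']
      | 1 => rw [gamma_one]; simp [Multiset.esymm, Multiset.powersetCard_one]
      | i + 2 =>
        rw [gamma_thin_sub_one' (lam_one_pos L.posStr) (lam_line L.posStr hu), esymm_eq_zero_of_card_lt (by simp)]
    rw [hser, psum_genSer, theta_line _ hu]; simp
  exact this (hl x (by simp))

/-- series whose `i`-th coefficient lies in `F^i` -/
def IsFilt (f : PowerSeries K) : Prop := ∀ i, PowerSeries.coeff i f ∈ gammaFiltration P i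

lemma isFilt_gser (x : K) : IsFilt P (gser P x) := fun i => by
  rw [gser, PowerSeries.coeff_mk]; exact gamma_mem P (by simp)

variable {P} in
lemma IsFilt.inv {f : PowerSeries K} (hf : IsFilt P f) (h0 : PowerSeries.constantCoeff f = 1) :
    IsFilt P (f.invOfUnit 1) := by
  intro i
  induction i using Nat.strong_induction_on with
  | _ i ih =>
    rcases i with - | i
    · exact mem_gammaFiltration_zero P _
    have h := congrArg (PowerSeries.coeff (i + 1)) (PowerSeries.mul_invOfUnit f 1 (by simpa using h0))
    rw [PowerSeries.coeff_mul, Finset.Nat.sum_antidiagonal_eq_sum_range_succ_mk, sum_range_succ', Nat.sub_zero,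
      PowerSeries.coeff_zero_eq_constantCoeff_apply, h0, one_mul, PowerSeries.coeff_one, if_neg (Nat.succ_ne_zero i)] at h
    rw [eq_neg_of_add_eq_zero_right h]
    refine neg_mem (sum_mem fun p hp => ?_)
    rw [mem_range] at hp
    have := mul_mem_gammaFiltration P (hf (p + 1)) (ih (i + 1 - (p + 1)) (by omega))
    rwa [show p + 1 + (i + 1 - (p + 1)) = i + 1 by omega] at this

lemma psum_succ {R : Type*} [CommRing R] (f : PowerSeries R) (k : ℕ) : psum f (k + 1) =
    (-1) ^ k * ∑ a ∈ range (k + 1), PowerSeries.coeff (a + 1) f * ((a : R) + 1) * PowerSeries.coeff (k - a) (f.invOfUnit 1) := by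
  rw [psum, PowerSeries.coeff_mul, Finset.Nat.sum_antidiagonal_eq_sum_range_succ_mk]
  exact congrArg _ (sum_congr rfl fun a _ => by rw [PowerSeries.coeff_derivative])

lemma theta_mem (hK : HasSplitting K P) (j : ℕ) (x : K) : theta P j x ∈ gammaFiltration P j := by
  rcases j with - | k
  · exact mem_gammaFiltration_zero P _
  rw [← psum_gser P hK, psum_succ]
  refine smul_mem_gammaFiltration P _ (sum_mem fun a ha => ?_)
  rw [mem_range] at ha
  have := mul_mem_gammaFiltration P (smul_mem_gammaFiltration P ((a : K) + 1) (isFilt_gser P x (a + 1)))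
    ((isFilt_gser P x).inv (constantCoeff_gser P x) (k - a))
  rw [show a + 1 + (k - a) = k + 1 by omega] at this
  rwa [mul_comm (PowerSeries.coeff (a + 1) _)]

lemma stirling_lt {j n : ℕ} (h : n < j) :
    ∑ k ∈ range (j + 1), (-1 : K) ^ (j - k) * (j.choose k : K) * (k : K) ^ n = 0 := by
  have := congrFun (fwdDiff_iter_pow_eq_zero_of_lt (R := K) h) 0
  rw [fwdDiff_iter_eq_sum_shift] at this
  simpa [zsmul_eq_mul] using this

lemma stirling_self (n : ℕ) :
    ∑ k ∈ range (n + 1), (-1 : K) ^ (n - k) * (n.choose k : K) * (k : K) ^ n = (n.factorial : K) := by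
  have := congrFun (fwdDiff_iter_eq_factorial (R := K) (n := n)) 0
  rw [fwdDiff_iter_eq_sum_shift] at this
  simpa [zsmul_eq_mul] using this

/-- `θ^j` on `F^n` modulo `F^{n+1}` -/
lemma theta_sub_mem (hK : HasSplitting K P) (j : ℕ) {n : ℕ} {x : K} (hx : x ∈ gammaFiltration P n) :
    theta P j x - (∑ k ∈ range (j + 1), (-1 : K) ^ (j - k) * (j.choose k : K) * (k : K) ^ n) * x ∈
      gammaFiltration P (n + 1) := by
  rw [theta_apply, sum_mul, ← sum_sub_distrib]
  refine sum_mem fun k _ => ?_
  rw [mul_assoc ((-1 : K) ^ (j - k) * (j.choose k : K)) ((k : K) ^ n) x, ← mul_sub]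
  exact smul_mem_gammaFiltration P _ (adams_sub_mem hK k hx)

lemma theta_mem_succ_of_lt (hK : HasSplitting K P) {j n : ℕ} (h : j < n) {x : K} (hx : x ∈ gammaFiltration P n) :
    theta P j x ∈ gammaFiltration P (j + 1) := by
  have := add_mem (gammaFiltration_anti P (Nat.le_succ n) (theta_sub_mem P hK j hx))
    (smul_mem_gammaFiltration P (∑ k ∈ range (j + 1), (-1 : K) ^ (j - k) * (j.choose k : K) * (k : K) ^ n) hx)
  rw [sub_add_cancel] at this
  exact gammaFiltration_anti P h this

lemma theta_self_sub_mem (hK : HasSplitting K P) {n : ℕ} {x : K} (hx : x ∈ gammaFiltration P n) :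
    theta P n x - (n.factorial : K) * x ∈ gammaFiltration P (n + 1) := by
  have := theta_sub_mem P hK n hx
  rwa [stirling_self] at this

end Groth.Agent.KGrLib
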