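import Groth.Agent.KGrLib.GrK
import Groth.Agent.KGrLib.Theta

/-!
# The Chern character `ch x = Σ_j [θ^j x]_j / j!` and its bijectivity
-/

open Finset TensorProduct

noncomputable section

namespace Groth.Agent.KGrLib

open LambdaRing LamR KGr

universe v

variable {K : Type v} [CommRing K] [LambdaOps K] (P : PosStructure K)

/-- classes of the coefficients of a series -/
def gmap (f : PowerSeries K) : PowerSeries (Gr P) := PowerSeries.mk fun i => gq P i (PowerSeries.coeff i f)

@[simp] lemma coeff_gmap (f : PowerSeries K) (i : ℕ) :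
    PowerSeries.coeff i (gmap P f) = gq P i (PowerSeries.coeff i f) := PowerSeries.coeff_mk _ _

lemma gmap_mul {f g : PowerSeries K} (hf : IsFilt P f) (hg : IsFilt P g) : gmap P (f * g) = gmap P f * gmap P g := by
  have hm : ∀ k, ∀ x ∈ antidiagonal k, PowerSeries.coeff x.1 f * PowerSeries.coeff x.2 g ∈ gammaFiltration P k :=
    fun k x hx => mem_antidiagonal.1 hx ▸ mul_mem_gammaFiltration P (hf x.1) (hg x.2)
  ext k
  rw [coeff_gmap, PowerSeries.coeff_mul, gq_sum P _ _ (hm k), PowerSeries.coeff_mul]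
  refine sum_congr rfl fun x hx => ?_
  rw [← mem_antidiagonal.1 hx, gq_mul P (hf x.1) (hg x.2), coeff_gmap, coeff_gmap]

lemma gmap_one : gmap P (1 : PowerSeries K) = 1 := by
  ext k
  rw [coeff_gmap, PowerSeries.coeff_one, PowerSeries.coeff_one]
  split_ifs with h
  · subst h; exact gq_one P
  · exact gq_zero P k

lemma constantCoeff_gmap {f : PowerSeries K} (h : PowerSeries.constantCoeff f = 1) :
    PowerSeries.constantCoeff (gmap P f) = 1 := by
  rw [← PowerSeries.coeff_zero_eq_constantCoeff_apply, coeff_gmap, PowerSeries.coeff_zero_eq_constantCoeff_apply, h, gq_one]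

lemma psum_succ' {R : Type*} [CommRing R] {f g : PowerSeries R} (h0 : PowerSeries.constantCoeff f = 1) (h : f * g = 1)
    (k : ℕ) : psum f (k + 1) =
    (-1) ^ k * ∑ a ∈ range (k + 1), PowerSeries.coeff (a + 1) f * ((a : R) + 1) * PowerSeries.coeff (k - a) g := by
  rw [psum_succ, invOfUnit_unique h0 h]

/-- a family of class maps, multiplicative on a multiplicative filtration, commutes with power sums -/
lemma psum_class {R : Type*} [CommRing R] (c : ℕ → K → R)
    (cadd : ∀ {n x y}, x ∈ gammaFiltration P n → y ∈ gammaFiltration P n → c n (x + y) = c n x + c n y)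
    (cmul : ∀ {a b x y}, x ∈ gammaFiltration P a → y ∈ gammaFiltration P b → c (a + b) (x * y) = c a x * c b y)
    {f : PowerSeries K} (hf : IsFilt P f) (h : PowerSeries.constantCoeff f = 1) {F G : PowerSeries R}
    (hF : ∀ i, PowerSeries.coeff i F = c i (PowerSeries.coeff i f))
    (hG : ∀ i, PowerSeries.coeff i G = c i (PowerSeries.coeff i (f.invOfUnit 1)))
    (hF0 : PowerSeries.constantCoeff F = 1) (hFG : F * G = 1) (k : ℕ) :
    psum F (k + 1) = c (k + 1) (psum f (k + 1)) := by
  have hi := hf.inv h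
  have c0 : ∀ n, c n 0 = 0 := fun n => by
    have := cadd (zero_mem (gammaFiltration P n)) (zero_mem (gammaFiltration P n))
    rwa [add_zero, left_eq_add] at this
  have cneg : ∀ {n x}, x ∈ gammaFiltration P n → c n (-x) = -c n x := fun {n x} hx => by
    rw [eq_neg_iff_add_eq_zero, ← cadd (neg_mem hx) hx, neg_add_cancel, c0]
  have csum : ∀ {n} (s : Finset ℕ) (g : ℕ → K), (∀ i ∈ s, g i ∈ gammaFiltration P n) →
      c n (∑ i ∈ s, g i) = ∑ i ∈ s, c n (g i) := fun {n} s g hg => by
    induction s using Finset.induction_on with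
    | empty => simp [c0]
    | insert a s ha ih =>
      rw [sum_insert ha, sum_insert ha, cadd (hg a (mem_insert_self a s)) (sum_mem fun i hi => hg i (mem_insert_of_mem hi)),
        ih fun i hi => hg i (mem_insert_of_mem hi)]
  have cnat : ∀ {n x} (N : ℕ), x ∈ gammaFiltration P n → c n ((N : K) * x) = (N : R) * c n x := fun {n x} N hx => by
    induction N with
    | zero => simp [c0]
    | succ N ih => rw [Nat.cast_succ, add_mul, one_mul, cadd (smul_mem_gammaFiltration P _ hx) hx, ih, Nat.cast_succ, add_mul, one_mul]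
  have hm : ∀ a ∈ range (k + 1), PowerSeries.coeff (a + 1) f * ((a : K) + 1) *
      PowerSeries.coeff (k - a) (f.invOfUnit 1) ∈ gammaFiltration P (k + 1) := fun a ha => by
    rw [mem_range] at ha
    have := mul_mem_gammaFiltration P (smul_mem_gammaFiltration P ((a : K) + 1) (hf (a + 1))) (hi (k - a))
    rw [show a + 1 + (k - a) = k + 1 by omega] at this
    rwa [mul_comm (PowerSeries.coeff (a + 1) f)]
  have hone : ∀ (m : ℕ) {z : K}, z ∈ gammaFiltration P (k + 1) →
      c (k + 1) ((-1 : K) ^ m * z) = (-1 : R) ^ m * c (k + 1) z := fun m z hz => by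
    induction m with
    | zero => simp
    | succ m ih =>
      rw [pow_succ', neg_one_mul, neg_mul, cneg (smul_mem_gammaFiltration P _ hz), ih, pow_succ']
      ring
  rw [psum_succ' hF0 hFG, psum_succ, hone k (sum_mem hm), csum _ _ hm]
  refine congrArg _ (sum_congr rfl fun a ha => ?_)
  rw [mem_range] at ha
  rw [hF, hG]
  conv_rhs => rw [show k + 1 = a + 1 + (k - a) by omega,
    show PowerSeries.coeff (a + 1) f * ((a : K) + 1) = ((a + 1 : ℕ) : K) * PowerSeries.coeff (a + 1) f by push_cast; ring,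
    cmul (smul_mem_gammaFiltration P _ (hf (a + 1))) (hi (k - a)), cnat _ (hf (a + 1))]
  push_cast; ring

/-- classes of power sums -/
lemma psum_gmap {f : PowerSeries K} (hf : IsFilt P f) (h : PowerSeries.constantCoeff f = 1) (k : ℕ) :
    psum (gmap P f) (k + 1) = gq P (k + 1) (psum f (k + 1)) := by
  have hFG : gmap P f * gmap P (f.invOfUnit 1) = 1 := by
    rw [← gmap_mul P hf (hf.inv h), PowerSeries.mul_invOfUnit f 1 (by simpa using h), gmap_one]
  have key := @psum_class K _ _ P (Gr P) _ (gq P) (gq_add P) (gq_mul P) f hf h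
  have k2 := @key (gmap P f) (gmap P (f.invOfUnit 1)) (coeff_gmap P f) (coeff_gmap P _) (constantCoeff_gmap P h) hFG k
  exact k2

/-- the elementary-symmetric series in `d` variables -/
def dser (d : ℕ) {R : Type*} [CommRing R] (c : Fin d → R) : PowerSeries R :=
  cser fun i => if h : i < d then c ⟨i, h⟩ else 0

/-- `CH_d` in terms of power sums -/
lemma chPoly_eq (d : ℕ) : chPoly d = (d : MvPolynomial (Fin d) ℚ) +
    ∑ j ∈ range d, MvPolynomial.C (1 / ((j + 1).factorial : ℚ)) * psum (dser d (MvPolynomial.X : Fin d → MvPolynomial (Fin d) ℚ)) (j + 1) := by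
  rw [chPoly, AlgEquiv.symm_apply_eq]
  apply Subtype.ext
  let φ : MvPolynomial (Fin d) ℚ →ₐ[ℚ] MvPolynomial (Fin d) ℚ :=
    (Subalgebra.val _).comp (MvPolynomial.esymmAlgHom (Fin d) ℚ d)
  have hφ : ∀ p, φ p = (MvPolynomial.esymmAlgEquiv (Fin d) ℚ (Fintype.card_fin d) p : MvPolynomial (Fin d) ℚ) := fun p => rfl
  rw [← hφ, map_add, map_natCast, map_sum]
  have hser : PowerSeries.map φ.toRingHom (dser d (MvPolynomial.X : Fin d → MvPolynomial (Fin d) ℚ)) =
      genSer ((Finset.univ : Finset (Fin d)).val.map (MvPolynomial.X : Fin d → MvPolynomial (Fin d) ℚ)) := by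
    rw [dser, map_cser, genSer_eq_cser]
    congr 1
    funext i
    rw [es, ← MvPolynomial.esymm_eq_multiset_esymm]
    split_ifs with h
    · show φ (MvPolynomial.X _) = _
      simp [φ, MvPolynomial.esymmAlgHom_apply]
    · rw [map_zero, MvPolynomial.esymm_eq_multiset_esymm, esymm_eq_zero_of_card_lt (by simp; omega)]
  have hterm : ∀ j, φ (MvPolynomial.C (1 / ((j + 1).factorial : ℚ)) * psum (dser d (MvPolynomial.X : Fin d → MvPolynomial (Fin d) ℚ)) (j + 1)) =
      ∑ i : Fin d, MvPolynomial.C (1 / ((j + 1).factorial : ℚ)) * MvPolynomial.X i ^ (j + 1) := fun j => by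
    rw [map_mul, show φ (MvPolynomial.C _) = MvPolynomial.C (1 / ((j + 1).factorial : ℚ)) from φ.commutes _]
    show _ * φ.toRingHom (psum _ _) = _
    rw [map_psum _ (show PowerSeries.constantCoeff (dser d (MvPolynomial.X : Fin d → MvPolynomial (Fin d) ℚ)) = 1 from constantCoeff_cser _), hser, psum_genSer, Multiset.map_map, Finset.sum_map_val, mul_sum]
    rfl
  rw [sum_congr rfl fun j _ => hterm j, sum_comm]
  show ∑ i, Polynomial.aeval (MvPolynomial.X i : MvPolynomial (Fin d) ℚ) (expTrunc d) = _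
  conv_lhs => enter [2, i]; rw [expTrunc, map_sum, sum_range_succ']
  simp only [Polynomial.aeval_C, Polynomial.aeval_X_pow, map_mul, pow_zero, Nat.factorial_zero, Nat.cast_one, div_one,
    map_one, mul_one, sum_add_distrib, sum_const, Finset.card_univ, Fintype.card_fin, nsmul_eq_mul]
  rw [add_comm]
  rfl

variable {d : ℕ} (hK : HasSplitting K P) (hd : gammaFiltration P (d + 1) = ⊥)
include hK hd

lemma eq_zero_of_mem {n : ℕ} (h : d < n) {x : K} (hx : x ∈ gammaFiltration P n) : x = 0 := by
  have := gammaFiltration_anti P (show d + 1 ≤ n by omega) hx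
  rwa [hd, AddSubgroup.mem_bot] at this

/-- the Chern character as a sum of classes of `θ^j` -/
lemma chK_eq (x : K) : chK P d x =
    ∑ j ∈ range (d + 1), algebraMap ℚ (Gr P) (1 / (j.factorial : ℚ)) * gq P j (theta P j x) := by
  rw [chK, chPoly_eq, map_add, map_natCast, map_sum, sum_range_succ', theta_zero, gq_intCast]
  have hser : PowerSeries.map (MvPolynomial.aeval fun i : Fin d => chern P (i.1 + 1) x).toRingHom
      (dser d (MvPolynomial.X : Fin d → MvPolynomial (Fin d) ℚ)) = gmap P (gser P x) := by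
    ext i
    rw [PowerSeries.coeff_map, coeff_gmap, gser, PowerSeries.coeff_mk, dser]
    rcases i with - | i
    · rw [PowerSeries.coeff_zero_eq_constantCoeff_apply, constantCoeff_cser, map_one, gamma_zero, gq_one]
    rw [coeff_succ_cser]
    split_ifs with h
    · show MvPolynomial.aeval _ (MvPolynomial.X _) = _
      rw [MvPolynomial.aeval_X, chern_eq]
    · rw [map_zero, eq_zero_of_mem P hK hd (show d < i + 1 by omega) (gamma_mem P (by simp)), gq_zero]
  rw [add_comm (∑ j ∈ range d, _), map_sub, map_natCast, ← add_assoc, sub_add_cancel, Nat.factorial_zero, Nat.cast_one,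
    div_one, map_one, one_mul, map_intCast]
  refine congrArg _ (sum_congr rfl fun j _ => ?_)
  rw [map_mul, MvPolynomial.aeval_C]
  congr 1
  refine (map_psum (R := MvPolynomial (Fin d) ℚ) (S := Gr P) (MvPolynomial.aeval fun i : Fin d => chern P (i.1 + 1) x).toRingHom
    (show PowerSeries.constantCoeff (dser d (MvPolynomial.X : Fin d → MvPolynomial (Fin d) ℚ)) = 1 from constantCoeff_cser _) (j + 1)).trans ?_
  rw [hser, psum_gmap P (isFilt_gser P x) (constantCoeff_gser P x), psum_gser P hK]

lemma chK_add (x y : K) : chK P d (x + y) = chK P d x + chK P d y := by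
  simp only [chK_eq P hK hd, map_add, ← sum_add_distrib]
  exact sum_congr rfl fun j _ => by rw [gq_add P (theta_mem P hK j x) (theta_mem P hK j y), mul_add]

lemma chK_one : chK P d (1 : K) = 1 := by
  rw [chK_eq P hK hd, sum_range_succ', sum_eq_zero fun j _ => ?_]
  · simp [theta_one, gq_one, Algebra.TensorProduct.one_def]
  · rw [theta_one, if_neg (Nat.succ_ne_zero j), gq_zero, mul_zero]

lemma chK_mul (x y : K) : chK P d (x * y) = chK P d x * chK P d y := by
  set A : ℕ → Gr P := fun j => algebraMap ℚ (Gr P) (1 / (j.factorial : ℚ)) * gq P j (theta P j x)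
  set B : ℕ → Gr P := fun j => algebraMap ℚ (Gr P) (1 / (j.factorial : ℚ)) * gq P j (theta P j y)
  have hA : ∀ a b, d < a + b → A a * B b = 0 := fun a b h => by
    simp only [A, B]
    rw [show ∀ a b c e : Gr P, (a * b) * (c * e) = (a * c) * (b * e) from fun a b c e => by ring, ← gq_mul P (theta_mem P hK a x) (theta_mem P hK b y),
      eq_zero_of_mem P hK hd h (mul_mem_gammaFiltration P (theta_mem P hK a x) (theta_mem P hK b y)), gq_zero, mul_zero]
  have hconv : ∀ j, algebraMap ℚ (Gr P) (1 / (j.factorial : ℚ)) * gq P j (theta P j (x * y)) =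
      ∑ q ∈ range (j + 1), A q * B (j - q) := fun j => by
    have hmem : ∀ p q, q ≤ j - p → p ≤ j → theta P (p + q) x * theta P (j - q) y ∈ gammaFiltration P (j + p) := fun p q hq hp => by
      have := mul_mem_gammaFiltration P (theta_mem P hK (p + q) x) (theta_mem P hK (j - q) y)
      rwa [show p + q + (j - q) = j + p by omega] at this
    rw [theta_mul P hK, sum_range_succ', gq_add P (sum_mem fun p hp => sum_mem fun q hq => ?_) (sum_mem fun q hq => ?_),
      gq_eq_zero_of_mem P (Nat.lt_succ_self j) (sum_mem fun p hp => sum_mem fun q hq => ?_), zero_add,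
      gq_sum P _ _ fun q hq => ?_, mul_sum]
    · refine sum_congr (by rw [Nat.sub_zero]) fun q hq => ?_
      rw [mem_range] at hq
      rw [Nat.choose_zero_right, one_mul, Nat.sub_zero, zero_add]
      have := gq_mul P (theta_mem P hK q x) (theta_mem P hK (j - q) y)
      rw [show q + (j - q) = j by omega] at this
      rw [gq_natCast_mul P _ (by simpa using hmem 0 q (by omega) (Nat.zero_le j)), this]
      simp only [A, B]
      rw [show (1 : ℚ) / (q.factorial : ℚ) = ((j.choose q : ℕ) : ℚ) * (1 / (j.factorial : ℚ)) * ((j - q).factorial : ℚ) by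
        rw [Nat.cast_choose ℚ (show q ≤ j by omega)]; field_simp,
        map_mul, map_mul, map_natCast]
      have h1 : algebraMap ℚ (Gr P) ((j - q).factorial : ℚ) * algebraMap ℚ (Gr P) (1 / ((j - q).factorial : ℚ)) = 1 := by
        rw [← map_mul, mul_one_div_cancel (Nat.cast_ne_zero.2 (Nat.factorial_ne_zero _)), map_one]
      linear_combination -((j.choose q : Gr P) * algebraMap ℚ (Gr P) (1 / (j.factorial : ℚ)) * gq P q (theta P q x) *
        gq P (j - q) (theta P (j - q) y)) * h1
    all_goals simp only [mem_range] at *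
    · exact smul_mem_gammaFiltration P _ (gammaFiltration_anti P (by omega) (hmem 0 q (by omega) (by omega)))
    · exact smul_mem_gammaFiltration P _ (gammaFiltration_anti P (by omega) (hmem (p + 1) q (by omega) (by omega)))
    · exact smul_mem_gammaFiltration P _ (gammaFiltration_anti P (by omega) (hmem (p + 1) q (by omega) (by omega)))
    · exact smul_mem_gammaFiltration P _ (gammaFiltration_anti P (by omega) (hmem 0 q (by omega) (by omega)))
  rw [chK_eq P hK hd, chK_eq P hK hd, chK_eq P hK hd, sum_congr rfl fun j _ => hconv j]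
  change _ = (∑ a ∈ range (d + 1), A a) * ∑ b ∈ range (d + 1), B b
  rw [sum_mul_sum, sum_sigma', ← sum_product',
    ← sum_filter_of_ne (s := range (d + 1) ×ˢ range (d + 1)) (p := fun w => w.1 + w.2 ≤ d) fun w _ hne => ?_]
  · refine sum_nbij' (fun w => (w.2, w.1 - w.2)) (fun w => ⟨w.1 + w.2, w.1⟩) ?_ ?_ ?_ ?_ ?_
    · rintro ⟨j, q⟩ h; simp at h ⊢; omega
    · rintro ⟨a, b⟩ h; simp at h ⊢; omega
    · rintro ⟨j, q⟩ h; simp at h ⊢; omega
    · rintro ⟨a, b⟩ h; simp
    · intros; rfl
  · by_contra h; exact hne (hA _ _ (by omega))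

/-- `ch` as a linear map -/
def Phi : ℚ ⊗[ℤ] K →ₗ[ℚ] Gr P :=
  LinearMap.liftBaseChange ℚ (AddMonoidHom.mk' (chK P d) (chK_add P hK hd)).toIntLinearMap

lemma Phi_tmul (x : K) : Phi P hK hd ((1 : ℚ) ⊗ₜ[ℤ] x) = chK P d x := by
  rw [Phi, LinearMap.liftBaseChange_tmul, one_smul]; rfl

lemma chK_of_mem {n : ℕ} {x : K} (hx : x ∈ gammaFiltration P n) (hn : n ≤ d) : chK P d x = gq P n x +
    ∑ j ∈ (range (d + 1)).filter (n < ·), algebraMap ℚ (Gr P) (1 / (j.factorial : ℚ)) * gq P j (theta P j x) := by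
  rw [chK_eq P hK hd, ← sum_filter_add_sum_filter_not (range (d + 1)) (n < ·), add_comm]
  congr 1
  rw [sum_eq_single_of_mem n (by simp; omega) fun j hj hne => ?_]
  · rw [gq_congr P (smul_mem_gammaFiltration P _ hx) (theta_self_sub_mem P hK hx), gq_natCast_mul P _ hx, ← mul_assoc,
      show (n.factorial : Gr P) = algebraMap ℚ (Gr P) (n.factorial : ℚ) by simp, ← map_mul,
      one_div_mul_cancel (Nat.cast_ne_zero.2 (Nat.factorial_ne_zero _)), map_one, one_mul]
  · rw [mem_filter, not_lt] at hj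
    rw [gq_eq_zero_of_mem P (Nat.lt_succ_self j) (theta_mem_succ_of_lt P hK (by omega) hx), mul_zero]

lemma surjective_Phi : Function.Surjective (Phi P hK hd) := by
  rw [← LinearMap.range_eq_top, eq_top_iff]
  set S := LinearMap.range (Phi P hK hd)
  have hcl : ∀ (n : ℕ) (x : K), x ∈ gammaFiltration P n → gq P n x ∈ S := by
    suffices ∀ k n, d + 1 ≤ n + k → ∀ x : K, x ∈ gammaFiltration P n → gq P n x ∈ S from
      fun n x hx => this (d + 1) n (by omega) x hx
    intro k
    induction k with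
    | zero => intro n hn x hx; rw [eq_zero_of_mem P hK hd (by omega) hx, gq_zero]; exact zero_mem S
    | succ k ih =>
      intro n hn x hx
      rcases Nat.lt_or_ge d n with h | h
      · rw [eq_zero_of_mem P hK hd h hx, gq_zero]; exact zero_mem S
      have hmem : chK P d x ∈ S := ⟨_, Phi_tmul P hK hd x⟩
      rw [eq_sub_of_add_eq (chK_of_mem P hK hd hx h).symm]
      refine sub_mem hmem (sum_mem fun j hj => ?_)
      rw [mem_filter, mem_range] at hj
      rw [← Algebra.smul_def]
      exact S.smul_mem _ (ih j (by omega) _ (theta_mem P hK j x))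
  intro z _
  induction z using TensorProduct.induction_on with
  | zero => exact zero_mem S
  | add a b ha hb => exact add_mem (ha trivial) (hb trivial)
  | tmul q w =>
    rw [show q ⊗ₜ[ℤ] w = q • ((1 : ℚ) ⊗ₜ[ℤ] w) by rw [smul_tmul', smul_eq_mul, mul_one]]
    refine S.smul_mem _ ?_
    induction gcl_span P w using AddSubgroup.closure_induction with
    | mem u hu => obtain ⟨n, x, hx, rfl⟩ := hu; exact hcl n x hx
    | zero => rw [tmul_zero]; exact zero_mem S
    | add a b _ _ ha hb => rw [tmul_add]; exact add_mem (ha trivial) (hb trivial)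
    | neg a _ ha => rw [tmul_neg]; exact neg_mem (ha trivial)

lemma torsion_of_chK_eq_zero {x : K} (h : chK P d x = 0) : ∃ N : ℕ, 1 ≤ N ∧ N • x = 0 := by
  suffices ∀ n, n ≤ d + 1 → ∃ N : ℕ, 1 ≤ N ∧ N • x ∈ gammaFiltration P n by
    obtain ⟨N, h1, h2⟩ := this (d + 1) le_rfl
    exact ⟨N, h1, by rwa [hd, AddSubgroup.mem_bot] at h2⟩
  intro n
  induction n with
  | zero => exact fun _ => ⟨1, le_rfl, mem_gammaFiltration_zero P _⟩
  | succ n ih =>
    intro hn
    obtain ⟨N, h1, h2⟩ := ih (by omega)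
    have hb : chK P d (N • x) = 0 := by
      rw [← Phi_tmul P hK hd, tmul_smul, map_nsmul, Phi_tmul, h, smul_zero]
    rw [chK_of_mem P hK hd h2 (by omega)] at hb
    let π : Gr P →ₗ[ℚ] ℚ ⊗[ℤ] (K ⧸ gammaFiltration P (n + 1)) := (proj P n).toIntLinearMap.baseChange ℚ
    have hπ : ∀ (m : ℕ) (z : K), z ∈ gammaFiltration P m →
        π (gq P m z) = (1 : ℚ) ⊗ₜ[ℤ] (if m = n then QuotientAddGroup.mk z else 0) := fun m z hz => by
      show π ((1 : ℚ) ⊗ₜ[ℤ] gcl P m z) = _
      rw [LinearMap.baseChange_tmul]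
      exact congrArg _ (proj_gcl P hz)
    have h0 := congrArg π hb
    rw [map_add, map_zero, hπ n _ h2, if_pos rfl, map_sum, sum_eq_zero (fun j hj => ?_), add_zero] at h0
    · obtain ⟨M, hM1, hM2⟩ := exists_nsmul_eq_zero h0
      rw [← QuotientAddGroup.mk_nsmul, QuotientAddGroup.eq_zero_iff, ← mul_smul] at hM2
      exact ⟨M * N, Nat.one_le_iff_ne_zero.2 (Nat.mul_ne_zero (by omega) (by omega)), hM2⟩
    · rw [mem_filter, mem_range] at hj
      rw [← Algebra.smul_def, map_smul, hπ j _ (theta_mem P hK j _), if_neg (by omega), tmul_zero, smul_zero]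

lemma injective_Phi : Function.Injective (Phi P hK hd) := by
  rw [← LinearMap.ker_eq_bot, LinearMap.ker_eq_bot']
  intro y hy
  obtain ⟨q, a, rfl⟩ := exists_eq_tmul y
  rcases eq_or_ne q 0 with rfl | hq
  · rw [zero_tmul]
  rw [show q ⊗ₜ[ℤ] a = q • ((1 : ℚ) ⊗ₜ[ℤ] a) by rw [smul_tmul', smul_eq_mul, mul_one]] at hy ⊢
  rw [map_smul, Phi_tmul, smul_eq_zero] at hy
  obtain ⟨N, h1, h2⟩ := torsion_of_chK_eq_zero P hK hd (hy.resolve_left hq)
  have : (N : ℚ) • ((1 : ℚ) ⊗ₜ[ℤ] a) = 0 := by
    rw [Nat.cast_smul_eq_nsmul, ← tmul_smul, h2, tmul_zero]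
  rw [(smul_eq_zero.1 this).resolve_left (Nat.cast_ne_zero.2 (by omega)), smul_zero]

theorem exists_chernCharacter : ∃ Φ : ℚ ⊗[ℤ] K →ₗ[ℚ] Gr P,
    (∀ x : K, Φ ((1 : ℚ) ⊗ₜ[ℤ] x) = chK P d x) ∧ Function.Bijective Φ :=
  ⟨Phi P hK hd, Phi_tmul P hK hd, injective_Phi P hK hd, surjective_Phi P hK hd⟩

end Groth.Agent.KGrLib
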