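import Groth.Agent.LamR.Filt
import Groth.Prelude.Def_KGr
import Mathlib.RingTheory.Localization.BaseChange
import Mathlib.RingTheory.Localization.FractionRing

/-!
# The associated graded ring of the γ-filtration: classes and degree projections
-/

open Finset TensorProduct LaurentPolynomial

noncomputable section

namespace Groth.Agent.KGrLib

open LambdaRing LamR KGr

universe v

variable {K : Type v} [CommRing K] [LambdaOps K] (P : PosStructure K)

lemma mem_rees_of_mem {n : ℕ} {x : K} (hx : x ∈ gammaFiltration P n) :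
    (LaurentPolynomial.C x * T (-(n : ℤ)) : LaurentPolynomial K) ∈ rees P :=
  Subring.subset_closure (Set.mem_insert_of_mem _ ⟨n, x, hx, rfl⟩)

open Classical in
/-- the class in degree `n` of an element of `F^n` -/
def gcl (n : ℕ) (x : K) : GrZ P :=
  if h : x ∈ gammaFiltration P n then Ideal.Quotient.mk _ ⟨_, mem_rees_of_mem P h⟩ else 0

lemma gcl_eq {n : ℕ} {x : K} (h : x ∈ gammaFiltration P n) :
    gcl P n x = Ideal.Quotient.mk (Ideal.span {tGen P}) ⟨_, mem_rees_of_mem P h⟩ := dif_pos h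

lemma gcl_add {n : ℕ} {x y : K} (hx : x ∈ gammaFiltration P n) (hy : y ∈ gammaFiltration P n) :
    gcl P n (x + y) = gcl P n x + gcl P n y := by
  rw [gcl_eq P hx, gcl_eq P hy, gcl_eq P (add_mem hx hy), ← map_add]
  congr 1
  exact Subtype.ext (by simp [add_mul])

lemma gcl_mul {a b : ℕ} {x y : K} (hx : x ∈ gammaFiltration P a) (hy : y ∈ gammaFiltration P b) :
    gcl P (a + b) (x * y) = gcl P a x * gcl P b y := by
  rw [gcl_eq P hx, gcl_eq P hy, gcl_eq P (mul_mem_gammaFiltration P hx hy), ← map_mul]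
  congr 1
  refine Subtype.ext ?_
  show LaurentPolynomial.C (x * y) * T (-((a + b : ℕ) : ℤ)) = LaurentPolynomial.C x * T (-(a : ℤ)) * (LaurentPolynomial.C y * T (-(b : ℤ)))
  rw [mul_mul_mul_comm, ← map_mul, ← T_add]
  congr 2
  push_cast; ring

lemma gcl_one : gcl P 0 (1 : K) = 1 := by
  rw [gcl_eq P (mem_gammaFiltration_zero P 1), ← map_one (Ideal.Quotient.mk (Ideal.span {tGen P}))]
  congr 1
  exact Subtype.ext (by simp)

lemma gcl_succ_eq_zero {n : ℕ} {x : K} (hx : x ∈ gammaFiltration P (n + 1)) : gcl P n x = 0 := by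
  rw [gcl_eq P (gammaFiltration_anti P (Nat.le_succ n) hx), Ideal.Quotient.eq_zero_iff_mem, Ideal.mem_span_singleton]
  refine ⟨⟨_, mem_rees_of_mem P hx⟩, Subtype.ext ?_⟩
  show LaurentPolynomial.C x * T (-(n : ℤ)) = T 1 * (LaurentPolynomial.C x * T (-((n + 1 : ℕ) : ℤ)))
  rw [mul_left_comm, ← T_add]
  congr 2
  push_cast; ring

lemma gcl_eq_zero_of_mem {n m : ℕ} (hnm : n < m) {x : K} (hx : x ∈ gammaFiltration P m) : gcl P n x = 0 :=
  gcl_succ_eq_zero P (gammaFiltration_anti P (show n + 1 ≤ m by omega) hx)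

lemma gcl_congr {n : ℕ} {x y : K} (hy : y ∈ gammaFiltration P n) (h : x - y ∈ gammaFiltration P (n + 1)) :
    gcl P n x = gcl P n y := by
  rw [show x = y + (x - y) by ring, gcl_add P hy (gammaFiltration_anti P (Nat.le_succ n) h), gcl_succ_eq_zero P h, add_zero]

lemma gcl_natCast_mul {n : ℕ} (N : ℕ) {x : K} (hx : x ∈ gammaFiltration P n) :
    gcl P n ((N : K) * x) = (N : GrZ P) * gcl P n x := by
  induction N with
  | zero => simp [gcl_eq_zero_of_mem P (Nat.lt_succ_self n) (zero_mem _ : (0 : K) ∈ gammaFiltration P (n + 1))]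
  | succ N ih =>
    rw [Nat.cast_succ, add_mul, one_mul, gcl_add P (smul_mem_gammaFiltration P _ hx) hx, ih, Nat.cast_succ, add_mul, one_mul]

/-- the class in `ℚ Gr` -/
def gq (n : ℕ) (x : K) : Gr P := (1 : ℚ) ⊗ₜ[ℤ] gcl P n x

lemma gq_add {n : ℕ} {x y : K} (hx : x ∈ gammaFiltration P n) (hy : y ∈ gammaFiltration P n) :
    gq P n (x + y) = gq P n x + gq P n y := by rw [gq, gcl_add P hx hy, tmul_add]; rfl

lemma gq_mul {a b : ℕ} {x y : K} (hx : x ∈ gammaFiltration P a) (hy : y ∈ gammaFiltration P b) :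
    gq P (a + b) (x * y) = gq P a x * gq P b y := by
  rw [gq, gcl_mul P hx hy, gq, gq, Algebra.TensorProduct.tmul_mul_tmul, one_mul]

lemma gq_one : gq P 0 (1 : K) = 1 := by rw [gq, gcl_one]; rfl

lemma gq_eq_zero_of_mem {n m : ℕ} (hnm : n < m) {x : K} (hx : x ∈ gammaFiltration P m) : gq P n x = 0 := by
  rw [gq, gcl_eq_zero_of_mem P hnm hx, tmul_zero]

lemma gq_zero (n : ℕ) : gq P n (0 : K) = 0 := gq_eq_zero_of_mem P (Nat.lt_succ_self n) (zero_mem _)

lemma gq_neg {n : ℕ} {x : K} (hx : x ∈ gammaFiltration P n) : gq P n (-x) = -gq P n x := by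
  rw [eq_neg_iff_add_eq_zero, ← gq_add P (neg_mem hx) hx, neg_add_cancel, gq_zero]

lemma gq_congr {n : ℕ} {x y : K} (hy : y ∈ gammaFiltration P n) (h : x - y ∈ gammaFiltration P (n + 1)) :
    gq P n x = gq P n y := by rw [gq, gcl_congr P hy h]; rfl

lemma gq_sum {n : ℕ} {α : Type*} (s : Finset α) (f : α → K) (hf : ∀ i ∈ s, f i ∈ gammaFiltration P n) :
    gq P n (∑ i ∈ s, f i) = ∑ i ∈ s, gq P n (f i) := by
  classical
  induction s using Finset.induction_on with
  | empty => simp [gq_zero]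
  | insert a s ha ih =>
    rw [sum_insert ha, sum_insert ha, gq_add P (hf a (mem_insert_self a s)) (sum_mem fun i hi => hf i (mem_insert_of_mem hi)),
      ih fun i hi => hf i (mem_insert_of_mem hi)]

lemma gq_natCast_mul {n : ℕ} (N : ℕ) {x : K} (hx : x ∈ gammaFiltration P n) :
    gq P n ((N : K) * x) = (N : Gr P) * gq P n x := by
  induction N with
  | zero => simp [gq_zero]
  | succ N ih =>
    rw [Nat.cast_succ, add_mul, one_mul, gq_add P (smul_mem_gammaFiltration P _ hx) hx, ih, Nat.cast_succ, add_mul, one_mul]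

lemma gq_intCast (c : ℤ) : gq P 0 (c : K) = (c : Gr P) := by
  have h : ∀ m : ℕ, gq P 0 (m : K) = (m : Gr P) := fun m => by
    have := gq_natCast_mul P m (mem_gammaFiltration_zero P (1 : K))
    rwa [mul_one, gq_one, mul_one] at this
  obtain ⟨m, rfl | rfl⟩ := c.eq_nat_or_neg
  · rw [Int.cast_natCast, Int.cast_natCast, h]
  · rw [Int.cast_neg, Int.cast_natCast, gq_neg P (mem_gammaFiltration_zero P _), h, Int.cast_neg, Int.cast_natCast]

lemma grK_eq {n : ℕ} {x : K} (hx : x ∈ gammaFiltration P n) : grK P (n : ℤ) x = gq P n x := by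
  have h : ∃ N : ℕ, 1 ≤ N ∧ LaurentPolynomial.C ((N : K) * x) * T (-(n : ℤ)) ∈ rees P :=
    ⟨1, le_rfl, by rw [Nat.cast_one, one_mul]; exact mem_rees_of_mem P hx⟩
  rw [grK, dif_pos h]
  have hN := h.choose_spec.1
  set N := h.choose
  rw [← gcl_eq P (smul_mem_gammaFiltration P (N : K) hx), gcl_natCast_mul P N hx, ← nsmul_eq_mul, tmul_smul,
    smul_tmul', nsmul_eq_mul, mul_one_div_cancel (Nat.cast_ne_zero.2 (by omega))]
  rfl

lemma chern_eq {i : ℕ} (x : K) : chern P i x = gq P i (gamma i (x - (P.aug x : K))) :=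
  grK_eq P (gamma_mem P (by rw [map_sub, map_intCast, Int.cast_id, sub_self]))

/-- Laurent polynomials whose degree `-m` coefficient lies in `F^m` -/
def coeffSub : Subring (LaurentPolynomial K) where
  carrier := {p | ∀ a : ℤ, p.coeff a ∈ gammaFiltration P (-a).toNat}
  one_mem' a := by
    classical
    rw [AddMonoidAlgebra.one_def, AddMonoidAlgebra.coeff_single, Finsupp.single_apply]
    split_ifs with h
    · subst h; simpa using mem_gammaFiltration_zero P 1
    · exact zero_mem _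
  zero_mem' a := by simp
  add_mem' {p q} hp hq a := by rw [AddMonoidAlgebra.coeff_add]; exact add_mem (hp a) (hq a)
  neg_mem' {p} hp a := by rw [AddMonoidAlgebra.coeff_neg]; exact neg_mem (hp a)
  mul_mem' {p q} hp hq a := by
    classical
    rw [AddMonoidAlgebra.coeff_mul]
    refine sum_mem fun i _ => sum_mem fun j _ => ?_
    dsimp only
    split_ifs with h
    · exact gammaFiltration_anti P (by omega) (mul_mem_gammaFiltration P (hp i) (hq j))
    · exact zero_mem _

lemma rees_le : rees P ≤ coeffSub P := by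
  refine Subring.closure_le.2 ?_
  rintro p (rfl | ⟨n, x, hx, rfl⟩) a
  · classical
    rw [LaurentPolynomial.T, AddMonoidAlgebra.coeff_single, Finsupp.single_apply]
    split_ifs with h
    · subst h; simpa using mem_gammaFiltration_zero P 1
    · exact zero_mem _
  · classical
    rw [← single_eq_C_mul_T, AddMonoidAlgebra.coeff_single, Finsupp.single_apply]
    split_ifs with h
    · subst h; simpa using hx
    · exact zero_mem _

/-- the degree `n` projection before passing to the quotient -/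
def projR (n : ℕ) : rees P →+ K ⧸ gammaFiltration P (n + 1) :=
  AddMonoidHom.mk' (fun p => QuotientAddGroup.mk ((p : LaurentPolynomial K).coeff (-(n : ℤ))))
    fun p q => by simp

/-- the degree `n` projection -/
def proj (n : ℕ) : GrZ P →+ K ⧸ gammaFiltration P (n + 1) :=
  QuotientAddGroup.lift (Ideal.span {tGen P}).toAddSubgroup (projR P n) fun p hp => by
    obtain ⟨q, rfl⟩ := Ideal.mem_span_singleton.1 (show p ∈ Ideal.span {tGen P} from hp)
    show (QuotientAddGroup.mk (((tGen P * q : rees P) : LaurentPolynomial K).coeff (-(n : ℤ))) : K ⧸ gammaFiltration P (n + 1)) = 0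
    rw [QuotientAddGroup.eq_zero_iff]
    show ((T 1 : LaurentPolynomial K) * (q : LaurentPolynomial K)).coeff (-(n : ℤ)) ∈ _
    rw [LaurentPolynomial.T, AddMonoidAlgebra.coeff_single_mul_eq_mul_coeff (-((n : ℤ) + 1)) (fun b _ => by omega), one_mul]
    simpa using rees_le P q.2 (-((n : ℤ) + 1))

lemma proj_gcl {n m : ℕ} {x : K} (hx : x ∈ gammaFiltration P m) :
    proj P n (gcl P m x) = if m = n then QuotientAddGroup.mk x else 0 := by
  classical
  rw [gcl_eq P hx]
  show QuotientAddGroup.mk ((LaurentPolynomial.C x * T (-(m : ℤ))).coeff (-(n : ℤ))) = _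
  rw [← single_eq_C_mul_T, AddMonoidAlgebra.coeff_single, Finsupp.single_apply]
  by_cases h : m = n
  · subst h; simp
  · rw [if_neg h, if_neg (by omega)]; rfl

/-- classes generate the graded ring -/
lemma gcl_span (z : GrZ P) : z ∈ AddSubgroup.closure {w | ∃ (n : ℕ) (x : K), x ∈ gammaFiltration P n ∧ w = gcl P n x} := by
  set M := AddSubgroup.closure {w | ∃ (n : ℕ) (x : K), x ∈ gammaFiltration P n ∧ w = gcl P n x}
  have hmul : ∀ {u w}, u ∈ M → w ∈ M → u * w ∈ M := fun {u w} hu hw => by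
    refine (AddSubgroup.closure_le (M.comap (AddMonoidHom.mulRight w))).2 ?_ hu
    rintro _ ⟨a, x, hx, rfl⟩
    refine (AddSubgroup.closure_le (M.comap (AddMonoidHom.mulLeft _))).2 ?_ hw
    rintro _ ⟨b, y, hy, rfl⟩
    exact AddSubgroup.subset_closure ⟨a + b, x * y, mul_mem_gammaFiltration P hx hy, (gcl_mul P hx hy).symm⟩
  have hone : (1 : GrZ P) ∈ M := AddSubgroup.subset_closure ⟨0, 1, mem_gammaFiltration_zero P 1, (gcl_one P).symm⟩
  obtain ⟨⟨p, hp⟩, rfl⟩ := Ideal.Quotient.mk_surjective z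
  induction hp using Subring.closure_induction with
  | mem p h =>
    rcases h with rfl | ⟨n, x, hx, rfl⟩
    · rw [show Ideal.Quotient.mk (Ideal.span {tGen P}) ⟨T 1, _⟩ = 0 from
        Ideal.Quotient.eq_zero_iff_mem.2 (Ideal.subset_span rfl)]
      exact zero_mem M
    · exact AddSubgroup.subset_closure ⟨n, x, hx, (gcl_eq P hx).symm⟩
  | zero => exact zero_mem M
  | one => exact hone
  | add p q hp' hq' ihp ihq => exact add_mem ihp ihq
  | neg p hp' ihp => exact neg_mem ihp
  | mul p q hp' hq' ihp ihq => exact hmul ihp ihq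

omit [LambdaOps K] in
/-- kernel of rationalization -/
lemma exists_nsmul_eq_zero {M : Type*} [AddCommGroup M] {m : M} (h : (1 : ℚ) ⊗ₜ[ℤ] m = 0) :
    ∃ N : ℕ, 1 ≤ N ∧ N • m = 0 := by
  obtain ⟨c, hc⟩ := (IsLocalizedModule.eq_zero_iff (nonZeroDivisors ℤ) (TensorProduct.mk ℤ ℚ M 1)).1 h
  refine ⟨(c : ℤ).natAbs, Int.natAbs_pos.2 (nonZeroDivisors.ne_zero c.2), ?_⟩
  exact natAbs_nsmul_eq_zero.2 hc

lemma exists_eq_tmul {M : Type*} [AddCommGroup M] (y : ℚ ⊗[ℤ] M) : ∃ (q : ℚ) (m : M), y = q ⊗ₜ[ℤ] m := by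
  obtain ⟨⟨m, c⟩, h⟩ := IsLocalizedModule.surj (nonZeroDivisors ℤ) (TensorProduct.mk ℤ ℚ M 1) y
  refine ⟨((c : ℤ) : ℚ)⁻¹, m, ?_⟩
  have hc : ((c : ℤ) : ℚ) ≠ 0 := Int.cast_ne_zero.2 (nonZeroDivisors.ne_zero c.2)
  have h' : ((c : ℤ) : ℚ) • y = (1 : ℚ) ⊗ₜ[ℤ] m := by rw [Int.cast_smul_eq_zsmul]; exact h
  rw [← inv_smul_smul₀ hc y, h', smul_tmul', smul_eq_mul, mul_one]

end Groth.Agent.KGrLib
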