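import Groth.Agent.KGrLib.Chern
import Groth.Agent.LamR.Sym
import Groth.Prelude.Def_W4bkmilneecrracsp2Inv

/-!
# `td(e) · ch(λ₋₁ e^∨) = c_top(e)`
-/

open Finset TensorProduct MvPolynomial

noncomputable section

namespace Groth.Agent.KGrLib

open LambdaRing LamR KGr

section Alg

variable {σ : Type*} {R : Type*} [CommRing R]

/-- evaluation at `c i X^(w i)` reads off weighted components -/
lemma coeff_aeval_scaled {B : Type*} [CommRing B] [Algebra B R] (w : σ → ℕ) (c : σ → R) (p : MvPolynomial σ B) (j : ℕ) :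
    PowerSeries.coeff j (aeval (fun i => PowerSeries.C (c i) * PowerSeries.X ^ w i) p) =
      aeval c (weightedHomogeneousComponent w j p) := by
  induction p using MvPolynomial.induction_on' with
  | add p q hp hq => simp only [map_add, hp, hq]
  | monomial e b =>
    classical
    rw [aeval_monomial, weightedHomogeneousComponent_of_mem (m := j)
      ((mem_weightedHomogeneousSubmodule B w _ _).2 (isWeightedHomogeneous_monomial w e b rfl))]
    have : (e.prod fun i k => (PowerSeries.C (c i) * PowerSeries.X ^ w i) ^ k) =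
        PowerSeries.C (e.prod fun i k => c i ^ k) * PowerSeries.X ^ Finsupp.weight w e := by
      rw [Finsupp.weight_apply, Finsupp.prod, Finsupp.prod, Finsupp.sum, ← prod_pow_eq_pow_sum, map_prod, ← prod_mul_distrib]
      exact prod_congr rfl fun i _ => by rw [mul_pow, map_pow, ← pow_mul, smul_eq_mul, mul_comm (w i)]
    rw [this, ← mul_assoc, show algebraMap B (PowerSeries R) b = PowerSeries.C (algebraMap B R b) from IsScalarTower.algebraMap_apply B R (PowerSeries R) b, ← map_mul,
      PowerSeries.coeff_C_mul_X_pow]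
    split_ifs with h
    · rw [aeval_monomial]
    · rw [map_zero]

/-- `Σ_T (-1)^|T| (∏_{Tᶜ}(1+a))^j (1 - ∏_T (1+a))^j` -/
def Sfun (j : ℕ) {r : ℕ} (a : Fin r → R) : R :=
  ∑ T ∈ (Finset.univ : Finset (Fin r)).powerset,
    (-1) ^ T.card * (∏ i ∈ Tᶜ, (1 + a i)) ^ j * (1 - ∏ i ∈ T, (1 + a i)) ^ j

lemma map_Sfun {S : Type*} [CommRing S] (f : R →+* S) (j : ℕ) {r : ℕ} (a : Fin r → R) :
    f (Sfun j a) = Sfun j fun i => f (a i) := by simp [Sfun, map_sum, map_prod]

lemma Sfun_perm (j : ℕ) {r : ℕ} (a : Fin r → R) (s : Equiv.Perm (Fin r)) : Sfun j (fun i => a (s i)) = Sfun j a := by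
  rw [Sfun, Sfun]
  refine sum_equiv (Equiv.finsetCongr s) (fun T => by simp) fun T _ => ?_
  have hc : (T.map s.toEmbedding)ᶜ = Tᶜ.map s.toEmbedding := by
    ext i; simp
  simp [Equiv.finsetCongr_apply, hc, prod_map]

/-- the symmetric polynomial behind `θ^j λ₋₁` -/
lemma exists_Q (j r : ℕ) : ∃ Q : MvPolynomial (Fin r) ℤ,
    esymmAlgHom (Fin r) ℤ r Q = ⟨Sfun j (X : Fin r → MvPolynomial (Fin r) ℤ), fun s => by
      show (rename s : MvPolynomial (Fin r) ℤ →ₐ[ℤ] _).toRingHom (Sfun j (X : Fin r → MvPolynomial (Fin r) ℤ)) = _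
      rw [map_Sfun, show (fun i => (rename s : MvPolynomial (Fin r) ℤ →ₐ[ℤ] _).toRingHom (X i)) = fun i => X (s i) from
        funext fun i => rename_X _ _]
      exact Sfun_perm j X s⟩ :=
  esymmAlgHom_surjective ℤ (n := r) (σ := Fin r) (by simp) _

/-- a preimage -/
def Qpoly (j r : ℕ) : MvPolynomial (Fin r) ℤ := (exists_Q j r).choose

lemma Qpoly_spec (j r : ℕ) : aeval (fun i : Fin r => esymm (Fin r) ℤ (i + 1)) (Qpoly j r) =
    Sfun j (X : Fin r → MvPolynomial (Fin r) ℤ) := by
  rw [← esymmAlgHom_apply]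
  exact congrArg Subtype.val (exists_Q j r).choose_spec

/-- the formal roots in degree one -/
abbrev WW (r : ℕ) := MvPolynomial (Fin r) ℚ

/-- the weight of `e_{i+1}` -/
def wf (r : ℕ) (i : Fin r) : ℕ := (i : ℕ) + 1

/-- `e_{i+1}` -/
def ee (r : ℕ) (i : Fin r) : WW r := esymm (Fin r) ℚ (i + 1)

lemma ee_injective (r : ℕ) : Function.Injective (aeval (ee r) : WW r →ₐ[ℚ] WW r) := fun p q h => by
  refine esymmAlgHom_injective ℚ (n := r) (σ := Fin r) (by simp) (Subtype.ext ?_)
  rw [esymmAlgHom_apply, esymmAlgHom_apply]; exact h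

lemma isWeightedHomogeneous_ee (r : ℕ) (i : Fin r) : IsWeightedHomogeneous (fun _ : Fin r => 1) (ee r i) (wf r i) := by
  rw [ee, esymm_eq_multiset_esymm]
  have := isWeightedHomogeneous_esymm (w' := fun _ : Fin r => 1) ((Finset.univ : Finset (Fin r)).val.map (X : Fin r → WW r)) 1
    (fun x hx => by obtain ⟨j, -, rfl⟩ := Multiset.mem_map.1 hx; exact isWeightedHomogeneous_X ℚ _ j) ((i : ℕ) + 1)
  rwa [smul_eq_mul, mul_one] at this

/-- scaled evaluation of the symmetric polynomial -/
lemma aeval_ee_comp (j r m : ℕ) : aeval (ee r) (weightedHomogeneousComponent (wf r) m (Qpoly j r)) =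
    PowerSeries.coeff m (Sfun j fun i => PowerSeries.C (X i : WW r) * PowerSeries.X) := by
  rw [← coeff_aeval_scaled]
  congr 1
  have h := congrArg (aeval fun i => PowerSeries.C (X i : WW r) * PowerSeries.X : MvPolynomial (Fin r) ℤ →ₐ[ℤ] PowerSeries (WW r))
    (Qpoly_spec j r)
  have hS := map_Sfun (aeval fun i => PowerSeries.C (X i : WW r) * PowerSeries.X : MvPolynomial (Fin r) ℤ →ₐ[ℤ] PowerSeries (WW r)).toRingHom j X
  simp only [AlgHom.toRingHom_eq_coe, RingHom.coe_coe, aeval_X] at hS
  rw [hS] at h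
  rw [← h, ← AlgHom.comp_apply, comp_aeval]
  congr 2
  funext i
  rw [ee, esymm, esymm, map_sum, map_sum, sum_mul]
  refine sum_congr rfl fun T hT => ?_
  rw [map_prod, map_prod]
  simp only [aeval_X]
  rw [prod_mul_distrib, prod_const, (mem_powersetCard.1 hT).2, wf]

lemma X_dvd_one_sub_prod {r : ℕ} (T : Finset (Fin r)) (c : Fin r → R) :
    PowerSeries.constantCoeff (1 - ∏ i ∈ T, (1 + PowerSeries.C (c i) * PowerSeries.X)) = 0 ∧
    PowerSeries.coeff 1 (1 - ∏ i ∈ T, (1 + PowerSeries.C (c i) * PowerSeries.X)) = -∑ i ∈ T, c i := by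
  classical
  induction T using Finset.induction_on with
  | empty => simp
  | insert a s ha ih =>
    rw [prod_insert ha, sum_insert ha]
    set M := ∏ i ∈ s, (1 + PowerSeries.C (c i) * PowerSeries.X)
    have h0 : PowerSeries.coeff 0 M = 1 := by
      rw [PowerSeries.coeff_zero_eq_constantCoeff_apply]
      have := ih.1
      rw [map_sub, map_one, sub_eq_zero] at this
      exact this.symm
    have h1 : PowerSeries.coeff 1 M = ∑ i ∈ s, c i := by
      have := ih.2
      rw [map_sub, PowerSeries.coeff_one, if_neg one_ne_zero, zero_sub, neg_inj] at this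
      exact this
    constructor
    · rw [PowerSeries.coeff_zero_eq_constantCoeff_apply] at h0
      simp [h0]
    · rw [add_mul, one_mul, map_sub, map_add, mul_assoc, PowerSeries.coeff_C_mul, PowerSeries.coeff_succ_X_mul, h0, h1,
        PowerSeries.coeff_one, if_neg one_ne_zero]
      ring

/-- `∏ (1 - exp(-W_i X))` -/
def Eser (r : ℕ) : PowerSeries (WW r) := ∏ i : Fin r, (1 - PowerSeries.rescale (-(X i : WW r)) (PowerSeries.exp (WW r)))

lemma prod_rescale_exp {r : ℕ} (T : Finset (Fin r)) (c : Fin r → WW r) :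
    ∏ i ∈ T, PowerSeries.rescale (c i) (PowerSeries.exp (WW r)) = PowerSeries.rescale (∑ i ∈ T, c i) (PowerSeries.exp (WW r)) := by
  classical
  induction T using Finset.induction_on with
  | empty => simp
  | insert a s ha ih => rw [prod_insert ha, sum_insert ha, ih, PowerSeries.exp_mul_exp_eq_exp_add]

lemma coeff_Sfun (j r m : ℕ) (hm : m ≤ j) :
    PowerSeries.coeff m (Sfun j fun i => PowerSeries.C (X i : WW r) * PowerSeries.X) =
      if m = j then (j.factorial : WW r) * PowerSeries.coeff j (Eser r) else 0 := by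
  have hT : ∀ T : Finset (Fin r), PowerSeries.coeff m ((-1 : PowerSeries (WW r)) ^ T.card *
      (∏ i ∈ Tᶜ, (1 + PowerSeries.C (X i : WW r) * PowerSeries.X)) ^ j *
      (1 - ∏ i ∈ T, (1 + PowerSeries.C (X i : WW r) * PowerSeries.X)) ^ j) =
      if m = j then (-1) ^ T.card * (-∑ i ∈ T, (X i : WW r)) ^ j else 0 := by
    intro T
    obtain ⟨hc0, hc1⟩ := X_dvd_one_sub_prod T (X : Fin r → WW r)
    obtain ⟨g, hg⟩ := PowerSeries.X_dvd_iff.2 hc0
    rw [hg] at hc1 ⊢
    have hg0 : PowerSeries.constantCoeff g = -∑ i ∈ T, (X i : WW r) := by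
      rw [← hc1, PowerSeries.coeff_succ_X_mul, PowerSeries.coeff_zero_eq_constantCoeff_apply]
    rw [mul_pow, ← mul_assoc, mul_right_comm, PowerSeries.coeff_mul_X_pow']
    rcases eq_or_lt_of_le hm with rfl | h
    · rw [if_pos le_rfl, if_pos rfl, Nat.sub_self, PowerSeries.coeff_zero_eq_constantCoeff_apply, map_mul, map_mul,
        map_pow, map_pow, map_pow, map_prod, prod_eq_one fun i _ => by simp, one_pow, mul_one, hg0]
      simp
    · rw [if_neg (by omega), if_neg (by omega)]
  rw [Sfun, map_sum, sum_congr rfl fun T _ => hT T]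
  split_ifs with h
  · rw [Eser, prod_sub, map_sum, mul_sum]
    refine sum_congr rfl fun T _ => ?_
    rw [prod_const_one, mul_one, prod_rescale_exp, show (-1 : PowerSeries (WW r)) ^ T.card = PowerSeries.C ((-1) ^ T.card) by simp,
      PowerSeries.coeff_C_mul, PowerSeries.coeff_rescale, PowerSeries.coeff_exp, sum_neg_distrib, mul_left_comm]
    congr 1
    rw [mul_left_comm, show (j.factorial : WW r) = algebraMap ℚ (WW r) (j.factorial : ℚ) by simp, ← map_mul,
      mul_one_div_cancel (Nat.cast_ne_zero.2 (Nat.factorial_ne_zero _)), map_one, mul_one]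
  · simp

/-- the degree `j` part of `∏(1-exp(-W_i))` in elementary symmetric coordinates -/
def pE (j r : ℕ) : WW r :=
  MvPolynomial.C (1 / (j.factorial : ℚ)) * MvPolynomial.map (Int.castRingHom ℚ) (weightedHomogeneousComponent (wf r) j (Qpoly j r))

lemma aeval_map_cast {A : Type*} [CommRing A] [Algebra ℚ A] [Algebra ℤ A] {r : ℕ} (c : Fin r → A) (p : MvPolynomial (Fin r) ℤ) :
    aeval c (MvPolynomial.map (Int.castRingHom ℚ) p) = aeval c p := by
  induction p using MvPolynomial.induction_on with
  | C b => simp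
  | add p q hp hq => simp only [map_add, hp, hq]
  | mul_X p i hp => simp only [map_mul, hp, map_X, aeval_X]

lemma aeval_ee_pE (j r : ℕ) : aeval (ee r) (pE j r) = PowerSeries.coeff j (Eser r) := by
  rw [pE, map_mul, aeval_map_cast, aeval_ee_comp, coeff_Sfun j r j le_rfl, if_pos rfl, ← mul_assoc, MvPolynomial.aeval_C,
    show (j.factorial : WW r) = algebraMap ℚ (WW r) (j.factorial : ℚ) by simp, ← map_mul,
    one_div_mul_cancel (Nat.cast_ne_zero.2 (Nat.factorial_ne_zero _)), map_one, one_mul]

lemma comp_Qpoly_eq_zero {j r m : ℕ} (h : m < j) : weightedHomogeneousComponent (wf r) m (Qpoly j r) = 0 := by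
  apply MvPolynomial.map_injective (Int.castRingHom ℚ) Int.cast_injective
  apply ee_injective r
  rw [aeval_map_cast, aeval_ee_comp, coeff_Sfun j r m h.le, if_neg h.ne, map_zero, map_zero]

/-- the truncated Todd series at a root -/
def bser (d : ℕ) {S : Type*} [CommRing S] [Algebra ℚ S] (a : S) : Polynomial S :=
  ∑ k ∈ range (d + 1), Polynomial.C (algebraMap ℚ S (bernoulli' k / (k.factorial : ℚ)) * a ^ k) * Polynomial.X ^ k

/-- the product over roots, coefficientwise -/
def bF (d m : ℕ) {S : Type*} [CommRing S] [Algebra ℚ S] (s : Multiset S) : S := ((s.map (bser d)).prod).coeff m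

lemma exists_q (d m : ℕ) : ∃ q : MvPolynomial ℕ ℚ, IsWeightedHomogeneous wt q m ∧
    ∀ (S : Type) [CommRing S] [Algebra ℚ S] (s : Multiset S), aeval (es s) q = bF d m s := by
  refine exists_sym (B := ℚ) (fun S _ _ s => bF d m s) (fun S S' _ _ _ _ f s => ?_) (fun S _ _ s => ?_) m fun N => ?_
  · rw [bF, bF, Multiset.map_map]
    show f.toRingHom _ = _
    rw [← Polynomial.coeff_map, ← Polynomial.coe_mapRingHom, map_multiset_prod, Multiset.map_map]
    congr 3
    funext a
    rw [Function.comp_apply, Function.comp_apply, bser, bser, map_sum]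
    refine sum_congr rfl fun k _ => ?_
    rw [map_mul, map_pow, Polynomial.coe_mapRingHom, Polynomial.map_C, Polynomial.map_X]
    show Polynomial.C (f (_ * _)) * _ = _
    rw [map_mul, map_pow, f.commutes]
  · rw [bF, bF, Multiset.map_cons, Multiset.prod_cons]
    have : bser d (0 : S) = 1 := by
      rw [bser, sum_range_succ', sum_eq_zero fun k _ => by simp [pow_succ]]
      simp [bernoulli'_zero]
    rw [this, one_mul]
  · let P : Polynomial (WW N) → Prop := fun p => ∀ k, IsWeightedHomogeneous (fun _ : Fin N => 1) (p.coeff k) k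
    have hmul : ∀ p q, P p → P q → P (p * q) := fun p q hp hq k => by
      rw [Polynomial.coeff_mul]
      refine IsWeightedHomogeneous.sum _ _ _ fun x hx => ?_
      exact mem_antidiagonal.1 hx ▸ (hp x.1).mul (hq x.2)
    have hone : P 1 := fun k => by
      rw [Polynomial.coeff_one]; split_ifs with h
      · subst h; exact isWeightedHomogeneous_one _ _
      · exact isWeightedHomogeneous_zero _ _ _
    have : P ((gen N ℚ).map (bser d)).prod := by
      refine Multiset.prod_induction P _ hmul hone fun x hx k => ?_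
      obtain ⟨a, ha, rfl⟩ := Multiset.mem_map.1 hx
      obtain ⟨i, -, rfl⟩ := Multiset.mem_map.1 ha
      rw [bser, Polynomial.finsetSum_coeff]
      refine IsWeightedHomogeneous.sum _ _ _ fun l _ => ?_
      rw [Polynomial.coeff_C_mul_X_pow]
      split_ifs with h
      · subst h
        have := ((isWeightedHomogeneous_X ℚ (fun _ : Fin N => 1) i).pow k).C_mul (bernoulli' k / (k.factorial : ℚ))
        rw [smul_eq_mul, mul_one] at this
        exact this
      · exact isWeightedHomogeneous_zero _ _ _
    exact this m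

/-- the universal degree `m` Todd polynomial, truncation `d` -/
def qT (d m : ℕ) : MvPolynomial ℕ ℚ := (exists_q d m).choose

lemma qT_hom (d m : ℕ) : IsWeightedHomogeneous wt (qT d m) m := (exists_q d m).choose_spec.1

lemma qT_spec (d m : ℕ) (S : Type) [CommRing S] [Algebra ℚ S] (s : Multiset S) : aeval (es s) (qT d m) = bF d m s :=
  (exists_q d m).choose_spec.2 S s

lemma natDegree_bser_le (d : ℕ) {S : Type*} [CommRing S] [Algebra ℚ S] (a : S) : (bser d a).natDegree ≤ d := by
  refine Polynomial.natDegree_sum_le_of_forall_le _ _ fun k hk => ?_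
  rw [mem_range] at hk
  exact (Polynomial.natDegree_C_mul_X_pow_le _ _).trans (by omega)

lemma aeval_es_gen_kill (r : ℕ) (q : MvPolynomial ℕ ℚ) :
    aeval (es (gen r ℚ)) q = aeval (ee r) (kill r q) := by
  rw [kill, ← AlgHom.comp_apply, comp_aeval]
  congr 2
  funext i
  split_ifs with h
  · rw [aeval_X, es_gen]; rfl
  · rw [map_zero]; exact esymm_eq_zero_of_card_lt (by simp [gen]; omega)

lemma toddPoly_eq (d : ℕ) : toddPoly d = ∑ m ∈ range (d * d + 1), kill d (qT d m) := by
  rw [toddPoly, AlgEquiv.symm_apply_eq]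
  apply Subtype.ext
  show _ = (esymmAlgHom (Fin d) ℚ d (∑ m ∈ range (d * d + 1), kill d (qT d m)) : WW d)
  rw [esymmAlgHom_apply]
  show _ = aeval (ee d) _
  rw [map_sum, sum_congr rfl fun m _ => (aeval_es_gen_kill d (qT d m)).symm, sum_congr rfl fun m _ => qT_spec d m _ (gen d ℚ)]
  have hdeg : (((gen d ℚ).map (bser d)).prod).natDegree < d * d + 1 := by
    refine Nat.lt_succ_of_le ((Polynomial.natDegree_multiset_prod_le _).trans ((Multiset.sum_le_card_nsmul _ d fun x hx => ?_).trans ?_))
    · obtain ⟨p, hp, rfl⟩ := Multiset.mem_map.1 hx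
      obtain ⟨a, -, rfl⟩ := Multiset.mem_map.1 hp
      exact natDegree_bser_le d a
    · simp [gen]
  simp only [bF]
  have h1 := Polynomial.eval_eq_sum_range' hdeg (1 : WW d)
  simp only [one_pow, mul_one] at h1
  rw [← h1, Polynomial.eval_multiset_prod, gen, Multiset.map_map, Multiset.map_map]
  show ∏ i, Polynomial.aeval (X i : WW d) (toddTrunc d) = ∏ i, Polynomial.eval 1 (bser d (X i : WW d))
  refine prod_congr rfl fun i _ => ?_
  simp [toddTrunc, bser, Polynomial.eval_finsetSum, map_sum]

/-- `t e^t/(e^t-1) · (1 - e^{-t}) = t` -/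
lemma bernoulli_mul {A : Type*} [CommRing A] [Algebra ℚ A] :
    bernoulli'PowerSeries A * (1 - PowerSeries.rescale (-1 : A) (PowerSeries.exp A)) = PowerSeries.X := by
  have h := bernoulli'PowerSeries_mul_exp_sub_one A
  have h2 : PowerSeries.exp A * PowerSeries.rescale (-1 : A) (PowerSeries.exp A) = 1 := PowerSeries.exp_mul_exp_neg_eq_one
  linear_combination (PowerSeries.rescale (-1 : A) (PowerSeries.exp A)) * h - (bernoulli'PowerSeries A - PowerSeries.X) * h2

lemma dvd_prod_sub {A : Type*} [CommRing A] {ι : Type*} (s : Finset ι) (f g : ι → A) (x : A)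
    (h : ∀ i ∈ s, x ∣ f i - g i) : x ∣ ∏ i ∈ s, f i - ∏ i ∈ s, g i := by
  classical
  induction s using Finset.induction_on with
  | empty => simp
  | insert a s ha ih =>
    rw [prod_insert ha, prod_insert ha,
      show f a * ∏ i ∈ s, f i - g a * ∏ i ∈ s, g i = (f a - g a) * ∏ i ∈ s, f i + g a * (∏ i ∈ s, f i - ∏ i ∈ s, g i) by ring]
    exact dvd_add ((h a (mem_insert_self a s)).mul_right _) ((ih fun i hi => h i (mem_insert_of_mem hi)).mul_left _)

/-- the universal identity in degree `n ≤ d` -/
lemma todd_mul_E (d : ℕ) {r n : ℕ} (hn : n ≤ d) :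
    ∑ q ∈ range (n + 1), aeval (ee (r + 1)) (kill (r + 1) (qT d q)) * aeval (ee (r + 1)) (pE (n - q) (r + 1)) =
      aeval (ee (r + 1)) (if n = r + 1 then (X (Fin.last r) : WW (r + 1)) else 0) := by
  simp only [← aeval_es_gen_kill, qT_spec, aeval_ee_pE, bF]
  set p := ((gen (r + 1) ℚ).map (bser d)).prod with hp
  have hB : PowerSeries.coeff n ((p : PowerSeries (WW (r + 1))) * Eser (r + 1)) =
      PowerSeries.coeff n ((∏ i : Fin (r + 1), PowerSeries.rescale (X i : WW (r + 1)) (bernoulli'PowerSeries (WW (r + 1)))) * Eser (r + 1)) := by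
    have : PowerSeries.X ^ (d + 1) ∣ (p : PowerSeries (WW (r + 1))) -
        ∏ i : Fin (r + 1), PowerSeries.rescale (X i : WW (r + 1)) (bernoulli'PowerSeries (WW (r + 1))) := by
      rw [hp, gen, Multiset.map_map, ← Polynomial.coeToPowerSeries.ringHom_apply,
        show ((Finset.univ : Finset (Fin (r + 1))).val.map (bser d ∘ (X : Fin (r + 1) → WW (r + 1)))).prod = ∏ i, bser d (X i : WW (r + 1)) from rfl,
        map_prod]
      refine dvd_prod_sub _ _ _ _ fun i _ => PowerSeries.X_pow_dvd_iff.2 fun k hk => ?_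
      rw [map_sub, Polynomial.coeToPowerSeries.ringHom_apply, Polynomial.coeff_coe, PowerSeries.coeff_rescale, bser,
        Polynomial.finsetSum_coeff, sum_eq_single_of_mem k (by simp; omega) fun l _ hl => by
          rw [Polynomial.coeff_C_mul_X_pow, if_neg hl.symm],
        Polynomial.coeff_C_mul_X_pow, if_pos rfl, bernoulli'PowerSeries, PowerSeries.coeff_mk, mul_comm, sub_self]
    have := PowerSeries.X_pow_dvd_iff.1 (this.mul_right (Eser (r + 1))) n (by omega)
    rwa [sub_mul, map_sub, sub_eq_zero] at this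
  rw [show ∑ q ∈ range (n + 1), p.coeff q * PowerSeries.coeff (n - q) (Eser (r + 1)) =
      PowerSeries.coeff n ((p : PowerSeries (WW (r + 1))) * Eser (r + 1)) by
    rw [PowerSeries.coeff_mul, Finset.Nat.sum_antidiagonal_eq_sum_range_succ_mk]
    exact sum_congr rfl fun q _ => by rw [Polynomial.coeff_coe],
    hB, Eser, ← prod_mul_distrib]
  have hi : ∀ i : Fin (r + 1), PowerSeries.rescale (X i : WW (r + 1)) (bernoulli'PowerSeries (WW (r + 1))) *
      (1 - PowerSeries.rescale (-(X i : WW (r + 1))) (PowerSeries.exp (WW (r + 1)))) = PowerSeries.C (X i : WW (r + 1)) * PowerSeries.X := fun i => by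
    have := congrArg (PowerSeries.rescale (X i : WW (r + 1))) (bernoulli_mul (A := WW (r + 1)))
    rwa [map_mul, map_sub, map_one, PowerSeries.rescale_rescale, neg_one_mul, PowerSeries.rescale_X] at this
  rw [prod_congr rfl fun i _ => hi i, prod_mul_distrib, prod_const, Finset.card_univ, Fintype.card_fin, ← map_prod,
    PowerSeries.coeff_C_mul_X_pow]
  split_ifs with h
  · rw [aeval_X, ee, Fin.val_last, esymm]
    have : (Finset.univ : Finset (Fin (r + 1))).powersetCard (r + 1) = {Finset.univ} := by
      conv_lhs => arg 1; rw [← Fintype.card_fin (r + 1), ← Finset.card_univ]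
      exact powersetCard_self _
    rw [this, sum_singleton]
  · rw [map_zero]

end Alg

lemma ringHom_aeval_int {σ S T : Type*} [CommRing S] [CommRing T] [Algebra ℤ S] [Algebra ℤ T] (f : S →+* T) (u : σ → S)
    (p : MvPolynomial σ ℤ) : f (aeval u p) = aeval (fun i => f (u i)) p := by
  induction p using MvPolynomial.induction_on with
  | C r => simp
  | add a b ha hb => simp only [map_add, ha, hb]
  | mul_X a i ha => simp only [map_mul, ha, aeval_X]

section Main

universe v

variable {K : Type v} [CommRing K] [LambdaOps K] (P : PosStructure K)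

/-- monomials in classes are classes of monomials -/
lemma gq_monomial {σ : Type*} (w : σ → ℕ) (x : σ → K) (hx : ∀ i, x i ∈ gammaFiltration P (w i)) (e : σ →₀ ℕ) :
    (e.prod fun i k => x i ^ k) ∈ gammaFiltration P (Finsupp.weight w e) ∧
      gq P (Finsupp.weight w e) (e.prod fun i k => x i ^ k) = e.prod fun i k => gq P (w i) (x i) ^ k := by
  classical
  rw [Finsupp.weight_apply, Finsupp.sum, Finsupp.prod, Finsupp.prod]
  induction e.support using Finset.induction_on with
  | empty => simpa using And.intro (mem_gammaFiltration_zero P 1) (gq_one P)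
  | insert a s ha ih =>
    rw [prod_insert ha, prod_insert ha, sum_insert ha]
    have h : x a ^ e a ∈ gammaFiltration P (e a • w a) ∧ gq P (e a • w a) (x a ^ e a) = gq P (w a) (x a) ^ e a := by
      induction e a with
      | zero => simpa using And.intro (mem_gammaFiltration_zero P 1) (gq_one P)
      | succ n ihn =>
        rw [pow_succ, succ_nsmul, pow_succ]
        exact ⟨mul_mem_gammaFiltration P ihn.1 (hx a), by rw [gq_mul P ihn.1 (hx a), ihn.2]⟩
    exact ⟨mul_mem_gammaFiltration P h.1 ih.1, by rw [gq_mul P h.1 ih.1, h.2, ih.2]⟩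

lemma gq_intCast_mul {n : ℕ} (b : ℤ) {x : K} (hx : x ∈ gammaFiltration P n) :
    gq P n ((b : K) * x) = (b : Gr P) * gq P n x := by
  obtain ⟨m, rfl | rfl⟩ := b.eq_nat_or_neg
  · rw [Int.cast_natCast, Int.cast_natCast, gq_natCast_mul P m hx]
  · rw [Int.cast_neg, Int.cast_natCast, neg_mul, gq_neg P (smul_mem_gammaFiltration P _ hx), gq_natCast_mul P m hx,
      Int.cast_neg, Int.cast_natCast]
    exact (neg_mul (α := Gr P) _ _).symm

/-- classes of polynomials with no components of weight `< j` -/
lemma gq_aeval {σ : Type*} (w : σ → ℕ) (x : σ → K) (hx : ∀ i, x i ∈ gammaFiltration P (w i)) {j : ℕ}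
    (p : MvPolynomial σ ℤ) (hp : ∀ m, m < j → weightedHomogeneousComponent w m p = 0) :
    aeval x p ∈ gammaFiltration P j ∧
      gq P j (aeval x p) = aeval (fun i => gq P (w i) (x i)) (weightedHomogeneousComponent w j p) := by
  classical
  have hsupp : ∀ e ∈ p.support, j ≤ Finsupp.weight w e := fun e he => by
    by_contra h
    have := congrArg (coeff e) (hp _ (Nat.lt_of_not_le h))
    rw [coeff_weightedHomogeneousComponent, if_pos rfl, coeff_zero] at this
    exact MvPolynomial.mem_support_iff.1 he this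
  have hmem : ∀ e ∈ p.support, algebraMap ℤ K (coeff e p) * (e.prod fun i k => x i ^ k) ∈ gammaFiltration P j :=
    fun e he => smul_mem_gammaFiltration P _ (gammaFiltration_anti P (hsupp e he) (gq_monomial P w x hx e).1)
  have hev : aeval x p = ∑ e ∈ p.support, algebraMap ℤ K (coeff e p) * (e.prod fun i k => x i ^ k) := by
    conv_lhs => rw [p.as_sum, map_sum]
    exact sum_congr rfl fun e _ => aeval_monomial _ _ _
  refine ⟨hev ▸ sum_mem hmem, ?_⟩
  rw [hev, gq_sum P _ _ hmem, weightedHomogeneousComponent_apply, map_sum, sum_filter]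
  refine sum_congr rfl fun e he => ?_
  rw [eq_intCast]
  split_ifs with h
  · subst h
    rw [gq_intCast_mul P _ (gq_monomial P w x hx e).1, (gq_monomial P w x hx e).2, aeval_monomial, eq_intCast]
  · exact gq_eq_zero_of_mem P (lt_of_le_of_ne (hsupp e he) (Ne.symm h))
      (smul_mem_gammaFiltration P _ (gq_monomial P w x hx e).1)

variable {d : ℕ} (hK : HasSplitting K P) (hd : gammaFiltration P (d + 1) = ⊥)
include hK hd

/-- weights above `d` vanish in `ℚ Gr` -/
lemma aeval_gq_eq_zero {σ : Type*} (w : σ → ℕ) (x : σ → K) (hx : ∀ i, x i ∈ gammaFiltration P (w i))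
    {n : ℕ} (hn : d < n) {p : MvPolynomial σ ℚ} (hp : IsWeightedHomogeneous w p n) :
    aeval (fun i => gq P (w i) (x i)) p = 0 := by
  rw [p.as_sum, map_sum]
  refine sum_eq_zero fun e he => ?_
  have hwe := hp (MvPolynomial.mem_support_iff.1 he)
  rw [aeval_monomial, ← (gq_monomial P w x hx e).2,
    eq_zero_of_mem P hK hd (hwe ▸ hn) (gq_monomial P w x hx e).1, gq_zero, mul_zero]

variable (inv : K → K) (hV : IsInvolution P inv) (hS : HasInvSplitting P inv) {e : K} (he : e ∈ P.pos)
include hV hS he

theorem td_mul_ch_lamAlt : tdK P d e *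
      chK P d (∑ i ∈ range ((P.aug e).toNat + 1), (-1 : K) ^ i * LambdaOps.lam i (inv e)) =
    chern P (P.aug e).toNat e := by
  classical
  obtain ⟨L, inv', g, hg, hV', hcomm, s, hs, hsum⟩ := hS e he
  obtain ⟨r, hr⟩ : ∃ r, (P.aug e).toNat = r + 1 := ⟨(P.aug e).toNat - 1, by have := P.aug_pos e he; omega⟩
  have hcard : s.card = r + 1 := by rw [← hr, ← hg.aug_comp, ← hsum, card_eq_aug hs, Int.toNat_natCast]
  rw [hr]
  obtain ⟨u, hu⟩ := exists_eq_map_univ s hcard
  have hul : ∀ i, L.posStr.IsLine (u i) := fun i => hs _ (hu ▸ Multiset.mem_map_of_mem u (Finset.mem_univ i))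
  set v : Fin (r + 1) → L.carrier := fun i => inv' (u i) with hv
  have hvl : ∀ i, L.posStr.IsLine (v i) := fun i => hV'.inv_line _ (hul i)
  set y := ∑ i ∈ range (r + 1 + 1), (-1 : K) ^ i * LambdaOps.lam i (inv e) with hy
  set z := e - (P.aug e : K) with hz
  have hz0 : P.aug z = 0 := by simp [hz]
  -- the γ-values are the elementary symmetric functions of the `u - 1`
  have hgam : ∀ i, g (gamma i z) = ((Finset.univ : Finset (Fin (r + 1))).val.map fun k => u k - 1).esymm i := fun i => by
    rw [map_gamma hg.isLambdaHom, hz, map_sub, map_intCast, ← hsum,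
      show (P.aug e : L.carrier) = ((r + 1 : ℕ) : L.carrier) by
        rw [show P.aug e = ((r + 1 : ℕ) : ℤ) by have := P.aug_pos e he; omega, Int.cast_natCast],
      ← gamma_multiset_sum]
    · congr 1
      rw [hu, Multiset.sum_map_sub]
      simp [add_comm]
    · intro w hw
      obtain ⟨k, _, rfl⟩ := Multiset.mem_map.1 hw
      exact gamma_thin_sub_one' (lam_one_pos L.posStr) (lam_line L.posStr (hul k))
  have hgy : g y = ∑ T ∈ (Finset.univ : Finset (Fin (r + 1))).powerset, (-1 : L.carrier) ^ T.card * ∏ i ∈ T, v i := by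
    let invH : L.carrier →+ L.carrier := AddMonoidHom.mk' inv' hV'.map_add
    have hinv : inv' (g e) = ((Finset.univ : Finset (Fin (r + 1))).val.map v).sum := by
      rw [← hsum, hu]
      show invH _ = _
      rw [map_multiset_sum, Multiset.map_map]
      rfl
    rw [hy, map_sum, sum_powerset, Finset.card_univ, Fintype.card_fin]
    refine sum_congr rfl fun i _ => ?_
    rw [map_mul, map_pow, map_neg, map_one, hg.isLambdaHom, hcomm, hinv,
      lam_multiset_sum _ (fun w hw => by
        obtain ⟨k, _, rfl⟩ := Multiset.mem_map.1 hw; exact lam_line L.posStr (hvl k)),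
      Finset.esymm_map_val, mul_sum]
    exact sum_congr rfl fun T hT => by rw [(mem_powersetCard.1 hT).2]
  -- the classes of `θ^j y`
  have hD : LambdaOps.lam (r + 1) e - 1 ∈ gammaFiltration P 1 := by
    have h := gamma_mem P (k := 1) (x := LambdaOps.lam (r + 1) e - 1) (by
      rw [map_sub, map_one, LamR.aug_lam hK he, hr, Nat.choose_self, Nat.cast_one, sub_self])
    rwa [gamma_one] at h
  have hgD : g (LambdaOps.lam (r + 1) e) = ∏ i, u i := by
    rw [hg.isLambdaHom, ← hsum, lam_multiset_sum _ (fun w hw => lam_line L.posStr (hs w hw)), hu, Finset.esymm_map_val]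
    rw [show (Finset.univ : Finset (Fin (r + 1))).powersetCard (r + 1) = {Finset.univ} from by
      conv_lhs => arg 1; rw [← Fintype.card_fin (r + 1), ← Finset.card_univ]
      exact powersetCard_self _, sum_singleton]
  have hθ : ∀ j, gq P j (theta P j y) =
      aeval (fun i : Fin (r + 1) => gq P (wf (r + 1) i) (gamma (wf (r + 1) i) z))
        (weightedHomogeneousComponent (wf (r + 1)) j (Qpoly j (r + 1))) := by
    intro j
    have hexact : LambdaOps.lam (r + 1) e ^ j * theta P j y =
        aeval (fun i : Fin (r + 1) => gamma (wf (r + 1) i) z) (Qpoly j (r + 1)) := by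
      apply hg.injective
      rw [map_mul, map_pow, hgD, map_theta hg, hgy, map_sum, mul_sum, ringHom_aeval_int,
        show (fun i : Fin (r + 1) => g (gamma (wf (r + 1) i) z)) =
          fun i : Fin (r + 1) => aeval (fun k => u k - 1) (esymm (Fin (r + 1)) ℤ ((i : ℕ) + 1)) from funext fun i => by
            rw [hgam, esymm_eq_multiset_esymm, wf]
            show _ = (aeval fun k => u k - 1).toRingHom _
            rw [LamR.map_esymm, Multiset.map_map]
            congr 1
            refine Multiset.map_congr rfl fun k _ => ?_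
            simp,
        ← comp_aeval (f := fun i : Fin (r + 1) => esymm (Fin (r + 1)) ℤ ((i : ℕ) + 1))
          (aeval fun k => u k - 1 : MvPolynomial (Fin (r + 1)) ℤ →ₐ[ℤ] L.carrier), AlgHom.comp_apply, Qpoly_spec]
      show _ = (aeval fun k => u k - 1).toRingHom _
      rw [map_Sfun, Sfun]
      refine sum_congr rfl fun T _ => ?_
      simp only [AlgHom.toRingHom_eq_coe, RingHom.coe_coe, aeval_X, add_sub_cancel]
      have hline : L.posStr.IsLine (∏ i ∈ T, v i) :=
        Finset.prod_induction v L.posStr.IsLine (fun _ _ => isLine_mul L.posStr) (isLine_one L.posStr) fun i _ => hvl i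
      have hone : (∏ i ∈ T, u i) * ∏ i ∈ T, v i = 1 := by
        rw [← prod_mul_distrib]
        exact prod_eq_one fun i _ => by rw [hv, mul_comm]; exact hV'.inv_mul_self _ (hul i)
      rw [show (-1 : L.carrier) ^ T.card * ∏ i ∈ T, v i = ((-1 : ℤ) ^ T.card) • ∏ i ∈ T, v i by simp [zsmul_eq_mul],
        map_zsmul, theta_line _ hline, zsmul_eq_mul, Int.cast_pow, Int.cast_neg, Int.cast_one, ← prod_compl_mul_prod T u,
        mul_pow, mul_left_comm, mul_assoc, mul_assoc, ← mul_pow, mul_sub, mul_one, hone]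
    have hDj : LambdaOps.lam (r + 1) e ^ j - 1 ∈ gammaFiltration P 1 := by
      rw [← geom_sum_mul (LambdaOps.lam (r + 1) e) j]
      exact smul_mem_gammaFiltration P _ hD
    have hc := gq_aeval P (wf (r + 1)) (fun i : Fin (r + 1) => gamma (wf (r + 1) i) z) (fun i => gamma_mem P hz0)
      (Qpoly j (r + 1)) (fun m hm => comp_Qpoly_eq_zero hm)
    rw [← hc.2, ← hexact]
    refine (gq_congr P (theta_mem P hK j y) ?_).symm
    have := mul_mem_gammaFiltration P hDj (theta_mem P hK j y)
    rw [sub_mul, one_mul, add_comm] at this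
    exact this
  set c : ℕ → Gr P := fun i => gq P (i + 1) (gamma (i + 1) z) with hc
  set cf : Fin (r + 1) → Gr P := fun i => gq P (wf (r + 1) i) (gamma (wf (r + 1) i) z) with hcf
  have hc0 : ∀ i, r + 1 ≤ i → c i = 0 := fun i hi => by
    have : gamma (i + 1) z = 0 := hg.injective (by rw [hgam, map_zero, esymm_eq_zero_of_card_lt (by simp; omega)])
    simp only [hc, this, gq_zero]
  have hcd : ∀ i, d ≤ i → c i = 0 := fun i hi => by
    simp only [hc, eq_zero_of_mem P hK hd (show d < i + 1 by omega) (gamma_mem P hz0), gq_zero]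
  have hkill : ∀ (N : ℕ) (q : MvPolynomial ℕ ℚ), (∀ i, N ≤ i → c i = 0) →
      aeval (fun i : Fin N => c i) (kill N q) = aeval c q := fun N q hN => by
    induction q using MvPolynomial.induction_on with
    | C b => simp
    | add p q hp hq => simp only [map_add, hp, hq]
    | mul_X p i hp =>
      rw [map_mul, map_mul, map_mul, hp, aeval_X, show kill N (MvPolynomial.X i : MvPolynomial ℕ ℚ) =
        (if h : i < N then MvPolynomial.X ⟨i, h⟩ else 0 : MvPolynomial (Fin N) ℚ) from aeval_X _ i]
      congr 1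
      split_ifs with h
      · rw [aeval_X]
      · rw [map_zero, hN i (by omega)]
  have htd : tdK P d e = ∑ q ∈ range (d + 1), aeval cf (kill (r + 1) (qT d q)) := by
    rw [tdK, toddPoly_eq, map_sum]
    rw [sum_congr rfl fun q _ => show aeval (fun i : Fin d => chern P (i.1 + 1) e) (kill d (qT d q)) = aeval cf (kill (r + 1) (qT d q)) by
      rw [show (fun i : Fin d => chern P (i.1 + 1) e) = fun i : Fin d => c i from funext fun i => chern_eq P e,
        show cf = fun i : Fin (r + 1) => c i from rfl, hkill d _ hcd, hkill (r + 1) _ hc0]]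
    have hvan : ∀ q, d < q → aeval cf (kill (r + 1) (qT d q)) = 0 := fun q hq => by
      rw [show cf = fun i : Fin (r + 1) => c i from rfl, hkill (r + 1) _ hc0]
      exact aeval_gq_eq_zero P hK hd wt (fun i => gamma (i + 1) z) (fun i => gamma_mem P hz0) hq (qT_hom d q)
    rcases Nat.eq_zero_or_pos d with rfl | hd0
    · rfl
    refine (sum_subset (fun q hq => ?_) fun q _ hq => hvan q ?_).symm
    · rw [mem_range] at hq ⊢; nlinarith
    · rw [mem_range] at hq; omega
  have hch : chK P d y = ∑ j ∈ range (d + 1), aeval cf (pE j (r + 1)) := by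
    rw [chK_eq P hK hd]
    refine sum_congr rfl fun j _ => ?_
    rw [hθ j, pE, map_mul, MvPolynomial.aeval_C]
    exact congrArg _ (aeval_map_cast cf _).symm
  have hpT : ∀ q j, d < q + j → aeval cf (kill (r + 1) (qT d q)) * aeval cf (pE j (r + 1)) = 0 := fun q j h => by
    rw [← map_mul]
    refine aeval_gq_eq_zero P hK hd (wf (r + 1)) (fun i : Fin (r + 1) => gamma (wf (r + 1) i) z) (fun i => gamma_mem P hz0) h ?_
    refine IsWeightedHomogeneous.mul ?_ ?_
    · refine isWeightedHomogeneous_aeval (w := wt) (fun i => ?_) (qT_hom d q)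
      split_ifs with hi
      · exact isWeightedHomogeneous_X ℚ (wf (r + 1)) ⟨i, hi⟩
      · exact isWeightedHomogeneous_zero _ _ _
    · refine IsWeightedHomogeneous.C_mul ?_ _
      intro m hm
      rw [coeff_map] at hm
      exact weightedHomogeneousComponent_isWeightedHomogeneous (w := wf (r + 1)) j (Qpoly j (r + 1)) (fun h0 => hm (by rw [h0, map_zero]))
  rw [htd, hch, sum_mul_sum]
  have hconv : ∀ n, n ≤ d → ∑ q ∈ range (n + 1), aeval cf (kill (r + 1) (qT d q)) * aeval cf (pE (n - q) (r + 1)) =
      if n = r + 1 then cf (Fin.last r) else 0 := fun n hn => by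
    have h := todd_mul_E (r := r) d hn
    simp only [← map_mul, ← map_sum] at h ⊢
    rw [ee_injective (r + 1) h]
    split_ifs
    · rw [aeval_X]
    · rw [map_zero]
  have hlast : cf (Fin.last r) = chern P (r + 1) e := (chern_eq P e).symm
  rw [← hlast, ← sum_product',
    ← sum_filter_of_ne (s := range (d + 1) ×ˢ range (d + 1)) (p := fun w => w.1 + w.2 ≤ d) fun w _ hne => ?_]
  · trans ∑ n ∈ range (d + 1), if n = r + 1 then cf (Fin.last r) else 0
    · rw [← sum_congr rfl fun n hn => hconv n (by rw [mem_range] at hn; omega), sum_sigma']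
      refine sum_nbij' (fun w => ⟨w.1 + w.2, w.1⟩) (fun w => (w.2, w.1 - w.2)) ?_ ?_ ?_ ?_ ?_
      · rintro ⟨a, b⟩ h; simp at h ⊢; omega
      · rintro ⟨j, q⟩ h; simp at h ⊢; omega
      · rintro ⟨a, b⟩ h; simp
      · rintro ⟨j, q⟩ h; simp at h ⊢; omega
      · rintro ⟨a, b⟩ h; simp
    · rw [sum_ite_eq']
      split_ifs with h
      · rfl
      · rw [mem_range] at h
        show (0 : Gr P) = cf (Fin.last r)
        show (0 : Gr P) = gq P (wf (r + 1) (Fin.last r)) (gamma (wf (r + 1) (Fin.last r)) z)
        rw [eq_zero_of_mem P hK hd (show d < wf (r + 1) (Fin.last r) by simp [wf]; omega) (gamma_mem P hz0), gq_zero]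
  · by_contra h; exact hne (hpT _ _ (by omega))

end Main

end Groth.Agent.KGrLib
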